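import Cfsg.Agent.BGSets.Neighbour
import Cfsg.Agent.Sigma.KappaExistence
import Cfsg.Agent.Sigma.KappaTypeTwoNormalizer
import Cfsg.Agent.Sigma.KappaDecomp
import Cfsg.Agent.BGFifteen.FittingEq
import Cfsg.Agent.S1418

/-!
B&G 15.9: arithmetic of a maximal subgroup and of the neighbour of one of its `σ`-elements.
-/

set_option autoImplicit false
set_option linter.unusedSectionVars false
set_option linter.style.haveILetI false

namespace CfsgLib.BGSets

open CfsgLib.BenderUnique CfsgLib.Uniq CfsgLib.SigmaGroups CfsgLib.BGFifteen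
open scoped commutatorElement

universe u

variable {G : Type u} [Group G] [Finite G] {M N : Subgroup G} {x : G}

/-- The congruence for an element of prime order normalising a subgroup without fixed points. -/
theorem prime_dvd_card_sub_one {r : ℕ} [Fact r.Prime] (a : G) (ha : orderOf a = r) (S : Subgroup G)
    (hnorm : a ∈ Subgroup.normalizer (S : Set G)) (hfree : ∀ y ∈ S, Commute a y → y = 1) :
    r ∣ Nat.card S - 1 := by
  classical
  letI : MulAction (Subgroup.zpowers a) S :=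
    { smul := fun g y => ⟨(g : G) * y * (g : G)⁻¹,
        (Subgroup.mem_normalizer_iff.1 (Subgroup.zpowers_le.2 hnorm g.2) y).1 y.2⟩
      one_smul := fun y => Subtype.ext (by show (1 : G) * y * (1 : G)⁻¹ = y; group)
      mul_smul := fun g h y => Subtype.ext (by
        show ((g : G) * h) * y * ((g : G) * h)⁻¹ = (g : G) * ((h : G) * y * (h : G)⁻¹) * (g : G)⁻¹
        group) }
  have hp : IsPGroup r (Subgroup.zpowers a) :=
    IsPGroup.of_card (n := 1) (by rw [Nat.card_zpowers, ha, pow_one])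
  have h := hp.card_modEq_card_fixedPoints (α := S)
  have hfix : MulAction.fixedPoints (Subgroup.zpowers a) S = {1} := by
    ext y
    constructor
    · intro hy
      have h1 : a * (y : G) * a⁻¹ = y := congrArg Subtype.val (hy ⟨a, Subgroup.mem_zpowers a⟩)
      exact Subtype.ext (hfree y y.2 (mul_inv_eq_iff_eq_mul.1 h1))
    · rintro rfl g
      exact Subtype.ext (show (g : G) * 1 * (g : G)⁻¹ = 1 by group)
  rw [hfix, Nat.card_unique (α := ({1} : Set S))] at h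
  exact (Nat.modEq_iff_dvd' (Nat.card_pos)).1 h.symm

/-- An element of prime order `q` of `M` free on `M_σ` forces `q < t` for `t ∈ σ(M) ∩ τ₂(N)`. -/
theorem lt_of_free (hG : Cfsg.IsMinSimpleOddOrder G) (hM : IsCoatom M)
    (hn : Group.IsNilpotent (Cfsg.sigmaCore M)) (hN : IsCoatom N) {t q : ℕ} [Fact t.Prime] [Fact q.Prime]
    (htM : t ∈ Cfsg.sigma M) (htN : t ∈ Cfsg.tau2 N) {a : G} (haM : a ∈ M) (hao : orderOf a = q)
    (hfree : Cfsg.sigmaCore M ⊓ Subgroup.centralizer ({a} : Set G) = ⊥) : q < t := by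
  have ht : t.Prime := Fact.out
  have hq : q.Prime := Fact.out
  obtain ⟨T, -, hTM, -⟩ := exists_sylow htM (IsPGroup.of_bot (p := t) (G := G)) bot_le
  have hT1 : (T : Subgroup G) ≠ ⊥ := T.ne_bot_of_dvd_card (htM.2.1.trans (Subgroup.card_subgroup_dvd_card M))
  have hNT := normalizer_eq_of_nilpotent hG hM hn htM T hT1 hTM
  have hTσ : (T : Subgroup G) ≤ Cfsg.sigmaCore M := le_sigmaCore hG hM htM T.isPGroup' hTM
  obtain ⟨W, hW, hNW⟩ := exists_omega_center (q := t) (T : Subgroup G)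
  -- `W` is nontrivial
  haveI : Nontrivial ↥(T : Subgroup G) := (Subgroup.nontrivial_iff_ne_bot _).2 hT1
  haveI := T.isPGroup'.center_nontrivial
  set Z := (Subgroup.center ↥(T : Subgroup G)).map (T : Subgroup G).subtype with hZ
  have hZp : IsPGroup t Z := (T.isPGroup'.to_subgroup _).map _
  have hZ1 : Z ≠ ⊥ := fun h => by
    rw [hZ, Subgroup.map_eq_bot_iff_of_injective _ (Subgroup.subtype_injective _)] at h
    exact (Subgroup.nontrivial_iff_ne_bot _).1 inferInstance h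
  obtain ⟨z, hz, hzo⟩ := exists_elem_prime (p := t) (H := Z) (dvd_card_of_ne_bot hZp hZ1)
  have hz1 : z ≠ 1 := fun h => ht.one_lt.ne (by rw [← hzo, h, orderOf_one])
  have hzW : z ∈ W := by
    obtain ⟨z', hz', rfl⟩ := hz
    refine (hW _).2 ⟨z'.2, Subgroup.mem_centralizer_iff.2 fun s hs => ?_, (orderOf_dvd_iff_pow_eq_one.1 hzo.dvd)⟩
    exact congrArg Subtype.val (Subgroup.mem_center_iff.1 hz' ⟨s, hs⟩)
  -- `W` lies in a rank two subgroup of a conjugate of `N`
  obtain ⟨A, hAN, hA, hAc⟩ := exists_elem_of_not_prank htN.2.2.2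
  obtain ⟨T', hAT'⟩ := IsPGroup.exists_le_sylow (isPGroup_of_elementary hA)
  obtain ⟨g, hg⟩ := MulAction.exists_smul_eq G T' T
  set A' := A.map (MulAut.conj g).toMonoidHom with hA'
  set N₀ := N.map (MulAut.conj g).toMonoidHom with hN₀
  have hA'T : A' ≤ (T : Subgroup G) := by
    rw [← hg]
    exact Subgroup.map_mono hAT'
  have htN₀ : t ∉ Cfsg.sigma N₀ := fun h => htN.2.1 ((mem_sigma_conj_iff g).1 h)
  have hWA : W ≤ A' := fun w hw => mem_of_centralizer_pow hG (isCoatom_map _ hN) htN₀ (Subgroup.map_mono hAN)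
    (elementary_map_conj hA g) ((card_map_conj A g).trans hAc)
    (Subgroup.centralizer_le hA'T ((hW w).1 hw).2.1) ((hW w).1 hw).2.2
  have hWd : Nat.card W ∣ t ^ 2 := by
    rw [← (card_map_conj A g).trans hAc]
    exact Subgroup.card_dvd_of_le hWA
  obtain ⟨i, hi, hWc⟩ := (Nat.dvd_prime_pow ht).1 hWd
  have hdiv : q ∣ Nat.card W - 1 := prime_dvd_card_sub_one a hao W (hNW (hNT.symm ▸ haM)) fun w hw hwc =>
    Subgroup.mem_bot.1 (hfree ▸ Subgroup.mem_inf.2 ⟨hTσ ((hW w).1 hw).1,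
      Subgroup.mem_centralizer_singleton_iff.2 hwc.eq.symm⟩)
  have hq2 : q ≠ 2 := ne_two hG (hao ▸ orderOf_dvd_natCard a)
  have ht2 : t ≠ 2 := ne_two hG (htM.2.1.trans (Subgroup.card_subgroup_dvd_card M))
  have ht3 : 3 ≤ t := by have := ht.two_le; omega
  rw [hWc] at hdiv
  interval_cases i
  · exfalso
    exact hz1 (Subgroup.mem_bot.1 (Subgroup.card_eq_one.1 (by rw [hWc, pow_zero]) ▸ hzW))
  · rw [pow_one] at hdiv
    have := Nat.le_of_dvd (by omega) hdiv
    omega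
  · rw [show t ^ 2 - 1 = (t + 1) * (t - 1) by
      rw [← Nat.sq_sub_sq, one_pow]] at hdiv
    rcases hq.dvd_mul.1 hdiv with h | h
    · rcases ht.eq_two_or_odd with e | e
      · exact absurd e ht2
      · have h2 : 2 * q ∣ t + 1 :=
          (((Nat.coprime_primes Nat.prime_two hq).2 hq2.symm)).mul_dvd_of_dvd_of_dvd (by omega) h
        have := Nat.le_of_dvd (by omega) h2
        omega
    · have := Nat.le_of_dvd (by omega) h
      omega

theorem lt_of_tau2 (hG : Cfsg.IsMinSimpleOddOrder G) (hM : IsCoatom M) (hN : IsCoatom N) {t q : ℕ}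
    [Fact t.Prime] [Fact q.Prime] (hqM : q ∈ Cfsg.tau2 M) (htM : t ∈ Cfsg.sigma M) (htN : t ∈ Cfsg.tau2 N) :
    q < t := by
  obtain ⟨A, hAM, hA, hAc⟩ := exists_elem_of_not_prank hqM.2.2.2
  obtain ⟨hn, -, -, -, -, A₁, hA₁A, hA₁c, hA₁f⟩ := Cfsg.Agent.S1417.result hG M hM q hqM A ⟨hAM, hA, hAc⟩
  obtain ⟨a, ha, hao⟩ := exists_elem_prime (p := q) (H := A₁) (hA₁c ▸ dvd_rfl)
  have he : Subgroup.zpowers a = A₁ := Subgroup.eq_of_le_of_card_ge (Subgroup.zpowers_le.2 ha)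
    (by rw [Nat.card_zpowers, hao, hA₁c])
  refine lt_of_free hG hM hn hN htM htN (hAM (hA₁A ha)) hao ?_
  rwa [← centralizer_zpowers, he]

/-- B&G 15.9 (a): `κ(M) = ∅`. -/
theorem kappa_eq_empty_of_neighbour (hG : Cfsg.IsMinSimpleOddOrder G) (hM : IsCoatom M)
    (hx : x ∈ Cfsg.sigmaCore M) (hx1 : x ≠ 1) (h : IsNeighbour M N x) {p : ℕ} [Fact p.Prime]
    (hpN : p ∈ Cfsg.sigma N) (hpM : p ∣ Nat.card M) : Cfsg.kappa M = ∅ := by
  have hN := h.coatom
  have hnc : ∀ g : G, M ≠ N.map (MulAut.conj g).toMonoidHom := fun g e => h.not_conj g⁻¹ (by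
    simp only [e, map_conj_map, inv_mul_cancel, map_conj_one])
  have hpsM : p ∉ Cfsg.sigma M := sigma_disjoint hG hN hM hnc hpN
  obtain ⟨t, ht, hd⟩ := Nat.exists_prime_and_dvd fun e => hx1 (orderOf_eq_one_iff.1 e)
  haveI := Fact.mk ht
  have htM := prime_mem_sigma M hx ht hd
  have htN := h.tau2 t ht hd
  obtain ⟨B, hB, hBe, hBc⟩ := exists_elementary_in_complement hG hN h.compl htN.2.1 htN.2.2.2
  obtain ⟨K, U, hKU⟩ := exists_decomp_any hG hM
  refine (K_eq_bot_iff_kappa hKU).1 ?_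
  by_contra hK1
  obtain ⟨Ms, hMs, P⟩ := exists_kappaPair hG hM hKU.hall hK1
  suffices hB' : ∃ B' : Subgroup G, B' ≤ Ms ∧ Cfsg.IsElementaryAbelian t B' ∧ Nat.card B' = t ^ 2 by
    obtain ⟨B', hB'M, hB'e, hB'c⟩ := hB'
    set S := Cfsg.sigmaCore M ⊓ Subgroup.centralizer (K : Set G) with hS
    have hstar : Cfsg.IsPiHallOf (Cfsg.sigma M) S Ms := P.star_hall hG hM hMs
    have htMs : t ∣ Nat.card Ms := (hB'c ▸ dvd_pow_self t two_ne_zero).trans (Subgroup.card_dvd_of_le hB'M)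
    have htS : t ∣ Nat.card S := by
      rw [← Subgroup.relIndex_bot_left, ← Subgroup.relIndex_mul_relIndex ⊥ S Ms bot_le hstar.1] at htMs
      rw [← Subgroup.relIndex_bot_left]
      exact (ht.dvd_mul.1 htMs).resolve_right (hstar.2.2 t ht htM)
    exact not_prank_of_elem hB'M hB'e (by rw [pow_one, hB'c]; exact lt_self_pow₀ ht.one_lt one_lt_two)
      (kappa_basic hG hMs (P.hall_star.2.1 t ht htS)).2.1
  have hconj : ∀ {H : Subgroup G}, IsCoatom H → p ∈ Cfsg.sigma H →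
      ∃ g : G, H = N.map (MulAut.conj g).toMonoidHom := fun {H} hH hpH => by
    by_contra hno
    push Not at hno
    exact sigma_disjoint hG hN hH hno hpN hpH
  by_cases hpk : p ∈ Cfsg.kappa M
  · have hpK : p ∣ Nat.card K := by
      have h1 : p ∣ Nat.card M := hpM
      rw [← Subgroup.relIndex_bot_left, ← Subgroup.relIndex_mul_relIndex ⊥ K M bot_le hKU.hall.1] at h1
      rw [← Subgroup.relIndex_bot_left]
      exact ((Fact.out : p.Prime).dvd_mul.1 h1).resolve_right (hKU.hall.2.2 p Fact.out hpk)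
    obtain ⟨g, hg⟩ := hconj hMs (mem_sigma_of_dvd Ms Fact.out
      (hpK.trans (Subgroup.card_dvd_of_le (P.eq_star.le.trans inf_le_left))))
    exact ⟨B.map (MulAut.conj g).toMonoidHom, hg ▸ Subgroup.map_mono (hB.trans inf_le_right),
      elementary_map_conj hBe g, (card_map_conj B g).trans hBc⟩
  have hUh := (decomp_complement_card hG hM hKU).2
  have hpU : p ∣ Nat.card U := by
    have h1 : p ∣ Nat.card M := hpM
    rw [← Subgroup.relIndex_bot_left, ← Subgroup.relIndex_mul_relIndex ⊥ U M bot_le hUh.1] at h1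
    rw [← Subgroup.relIndex_bot_left]
    exact ((Fact.out : p.Prime).dvd_mul.1 h1).resolve_right (hUh.2.2 p Fact.out ⟨Fact.out, hpk, hpsM⟩)
  obtain ⟨R⟩ : Nonempty (Sylow p U) := inferInstance
  set R' := (R : Subgroup U).map U.subtype with hR'
  have hR1 : R' ≠ ⊥ := fun e => R.ne_bot_of_dvd_card hpU
    ((Subgroup.map_eq_bot_iff_of_injective _ U.subtype_injective).1 e)
  obtain ⟨H, hH, hNH⟩ := exists_coatom_ge
    (normalizer_ne_top hG hR1 (pgroup_ne_top hG (R.isPGroup'.map U.subtype)))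
  obtain ⟨-, hUH, -, -, -, hcomp⟩ := type_two_normalizer hG hM hMs hKU P hpU R hH hNH
  obtain ⟨g, hg⟩ := hconj hH (mem_sigma_of_dvd H Fact.out (hpU.trans (Subgroup.card_dvd_of_le hUH)))
  have htH : t ∉ Cfsg.sigma H := fun e => htN.2.1 ((mem_sigma_conj_iff g).1 (hg ▸ e))
  have hBg : B.map (MulAut.conj g).toMonoidHom ≤ H := hg ▸ Subgroup.map_mono (hB.trans inf_le_right)
  obtain ⟨m, -, hm⟩ := exists_conj_le_complement hG hH hcomp hBg fun s hs hsd => by
    rw [card_map_conj, hBc] at hsd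
    rw [(Nat.prime_dvd_prime_iff_eq hs ht).1 (hs.dvd_of_dvd_pow hsd)]
    exact htH
  exact ⟨_, hm.trans inf_le_right, elementary_map_conj (elementary_map_conj hBe g) m,
    by rw [card_map_conj, card_map_conj, hBc]⟩

/-- B&G 15.9 (a): `τ₂(M) = ∅`. -/
theorem tau2_eq_empty_of_neighbour (hG : Cfsg.IsMinSimpleOddOrder G) (hM : IsCoatom M)
    (hx : x ∈ Cfsg.sigmaCore M) (hx1 : x ≠ 1) (h : IsNeighbour M N x) {p : ℕ} [Fact p.Prime]
    (hpN : p ∈ Cfsg.sigma N) (hpM : p ∣ Nat.card M) : Cfsg.tau2 M = ∅ := by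
  have hκ := kappa_eq_empty_of_neighbour hG hM hx hx1 h hpN hpM
  have hN := h.coatom
  have hp : p.Prime := Fact.out
  have hnc : ∀ g : G, M ≠ N.map (MulAut.conj g).toMonoidHom := fun g e => h.not_conj g⁻¹ (by
    simp only [e, map_conj_map, inv_mul_cancel, map_conj_one])
  have hNM : N ≠ M := fun e => hnc 1 (by rw [map_conj_one, e])
  have hpsM : p ∉ Cfsg.sigma M := sigma_disjoint hG hN hM hnc hpN
  obtain ⟨t, ht, hd⟩ := Nat.exists_prime_and_dvd fun e => hx1 (orderOf_eq_one_iff.1 e)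
  haveI := Fact.mk ht
  have htM := prime_mem_sigma M hx ht hd
  have htN := h.tau2 t ht hd
  obtain ⟨B, hB, hBe, hBc⟩ := exists_elementary_in_complement hG hN h.compl htN.2.1 htN.2.2.2
  have hB1 : B ≠ ⊥ := fun e => (lt_self_pow₀ ht.one_lt one_lt_two).not_ge (by
    rw [← hBc, e, Subgroup.card_bot]; exact ht.one_le)
  by_contra hne
  obtain ⟨q, hqM⟩ := Set.nonempty_iff_ne_empty.2 hne
  -- a `τ₂`-prime of `M` is not in `σ(N)`
  have hi : ∀ r : ℕ, r ∈ Cfsg.tau2 M → r ∉ Cfsg.sigma N := fun r hr hrN => by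
    haveI := Fact.mk hr.1
    exact lt_asymm (lt_of_tau2 hG hM hN hr htM htN) (lt_of_tau2 hG hN hM htN hrN hr)
  haveI := Fact.mk hqM.1
  have hq : q.Prime := hqM.1
  have hqN := hi q hqM
  have hpq : p ∉ Cfsg.tau2 M := fun e => hi p e hpN
  have hpr : Cfsg.PRankLE p 1 ↥M := by
    by_contra e
    exact hpq ⟨hp, hpsM, prankLE_two_of_not_sigma hG hM hpsM, e⟩
  -- `N` has no elementary subgroup of order `q²`
  have hII : ∀ A' : Subgroup G, A' ≤ N → Cfsg.IsElementaryAbelian q A' → Nat.card A' = q ^ 2 → False := by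
    intro A' hA'N hA' hA'c
    obtain ⟨m, -, hm⟩ := exists_conj_le_complement hG hN h.compl hA'N fun s hs hsd => by
      rw [hA'c] at hsd
      rw [(Nat.prime_dvd_prime_iff_eq hs hq).1 (hs.dvd_of_dvd_pow hsd)]
      exact hqN
    exact hx1 (Subgroup.mem_bot.1 (sigmaCore_inf_maximal_eq_bot hG hM hqM.2.1 (hm.trans inf_le_left)
      (elementary_map_conj hA' m) ((card_map_conj A' m).trans hA'c) hN hNM (hm.trans inf_le_right) ▸
        Subgroup.mem_inf.2 ⟨hx, h.mem⟩))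
  obtain ⟨A, hAM, hA, hAc⟩ := exists_elem_of_not_prank hqM.2.2.2
  obtain ⟨E, hAE, hE⟩ := exists_complement_ge hG hM hAM fun s hs hsd => by
    rw [hAc] at hsd
    rw [(Nat.prime_dvd_prime_iff_eq hs hq).1 (hs.dvd_of_dvd_pow hsd)]
    exact hqM.2.1
  obtain ⟨hn, -, -, hAfix, -, -⟩ := Cfsg.Agent.S1417.result hG M hM q hqM A ⟨hAM, hA, hAc⟩
  have hpE : p ∣ Nat.card E := by
    have h1 : p ∣ Nat.card M := hpM
    rw [← Subgroup.relIndex_bot_left, ← Subgroup.relIndex_mul_relIndex ⊥ E M bot_le hE.1] at h1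
    rw [← Subgroup.relIndex_bot_left]
    exact (hp.dvd_mul.1 h1).resolve_right ((hallOf_of_isComplIn hG hM hE).2.2 p hp ⟨hp, hpsM⟩)
  obtain ⟨b, hb, hbo⟩ := exists_elem_prime (p := p) (H := E) hpE
  have hb1 : b ≠ 1 := fun e => hp.one_lt.ne (by rw [← hbo, e, orderOf_one])
  have hfree := free_of_not_kappa hG hpsM (fun e => Set.notMem_empty p (hκ ▸ e)) hpr (hE.1 hb) hbo
  have hpt : p < t := lt_of_free hG hM hn hN htM htN (hE.1 hb) hbo hfree
  set P := Subgroup.zpowers b with hPdef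
  have hPc : Nat.card P = p := by rw [hPdef, Nat.card_zpowers, hbo]
  have hP1 : P ≠ ⊥ := fun e => hb1 (Subgroup.zpowers_eq_bot.1 e)
  have hPp : IsPGroup p P := IsPGroup.of_card (n := 1) (by rw [hPc, pow_one])
  obtain ⟨g, hg⟩ := sigma_conj_le hG hN hP1 fun s hs hsd => by
    rw [hPc] at hsd
    rwa [(Nat.prime_dvd_prime_iff_eq hs hp).1 hsd]
  set N₀ := N.map (MulAut.conj g⁻¹).toMonoidHom with hN₀
  have hN₀c : IsCoatom N₀ := isCoatom_map _ hN
  have hPN₀ : P ≤ N₀ := fun w hw => ⟨g * w * g⁻¹,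
    (Subgroup.map_subtype_le _ : Cfsg.sigmaCore N ≤ N) (hg ⟨w, hw, rfl⟩),
    by show g⁻¹ * (g * w * g⁻¹) * g⁻¹⁻¹ = w; group⟩
  have hNP : Subgroup.normalizer (P : Set G) ≤ N₀ := by
    obtain ⟨L, hL, hNL⟩ := exists_coatom_ge (normalizer_zpowers_ne_top hG hb1)
    by_cases he : L = N₀
    · exact he ▸ hNL
    exfalso
    have hs₀ : p ∈ Cfsg.sigma N₀ := (mem_sigma_conj_iff g⁻¹).2 hpN
    obtain ⟨S, hS⟩ := exists_max_ge hPp (le_inf hPN₀ (Subgroup.le_normalizer.trans hNL) : P ≤ N₀ ⊓ L)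
    obtain ⟨hnc₀, -, -⟩ := embedding_basic hG hN₀c hs₀ hPp hP1 hL he hNL S hS
    obtain ⟨hpL, -⟩ :=
      embedding_nonsigma hG hN₀c hs₀ hPp hP1 hL he hNL S hS (sigma_disjoint hG hN₀c hL hnc₀ hs₀)
    exact lt_asymm hpt (lt_of_tau2 hG hN hL htN hpN hpL)
  have hPA : P ≤ Subgroup.normalizer (A : Set G) :=
    (Subgroup.zpowers_le.2 hb).trans (le_normalizer_elementary hG hM hE hqM.2.1 hAE hA hAc)
  have hAp := isPGroup_of_elementary hA
  have hcomm : ⁅A, P⁆ ≤ Subgroup.centralizer (Cfsg.sigmaCore M : Set G) :=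
    commutator_le_centralizer_of_free (p := p) (ne_two hG (p := q) (by
        exact (hAc ▸ dvd_pow_self q two_ne_zero).trans (Subgroup.card_subgroup_dvd_card A)))
      (fun e => hpq (e ▸ hqM)) hAp hPc hPA (hAM.trans (le_normalizer_sigmaCore M))
      ((Subgroup.zpowers_le.2 (hE.1 hb)).trans (le_normalizer_sigmaCore M))
      (not_dvd_card_sigmaCore hqM.2.1) (not_dvd_card_sigmaCore hpsM)
      (isSolvable_of_ne_top hG fun e => hM.1 (top_le_iff.1 (e ▸ (Subgroup.map_subtype_le _))))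
      (by rw [hPdef, centralizer_zpowers]; exact hfree)
  have hcop : (Nat.card P).Coprime (Nat.card A) := by
    rw [hPc, hAc]
    exact Nat.Coprime.pow_right 2 ((Nat.coprime_primes hp hq).2 fun e => hpq (e ▸ hqM))
  have hdec : ∀ k ∈ A, ∃ n ∈ ⁅A, P⁆, ∃ c ∈ A ⊓ Subgroup.centralizer (P : Set G), n * c = k := fun k hk =>
    CoprimeAction.exists_commutator_mul_centralizer hPA hcop
      (Or.inl (isSolvable_of_ne_top hG (zpowers_ne_top hG b))) hk
  -- a nontrivial element of `C_A(P)`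
  obtain ⟨c, hc, hc1⟩ : ∃ c ∈ A ⊓ Subgroup.centralizer (P : Set G), c ≠ 1 := by
    by_contra e
    push Not at e
    have hle : A ≤ Subgroup.centralizer (Cfsg.sigmaCore M : Set G) := fun k hk => by
      obtain ⟨n, hn', c, hc, rfl⟩ := hdec k hk
      rw [e c hc, mul_one]
      exact hcomm hn'
    exact sigmaCore_ne_bot hG hM (le_bot_iff.1 (hAfix ▸ le_inf le_rfl (Subgroup.le_centralizer_iff.1 hle)))
  -- a nontrivial element of `[A, P]`
  obtain ⟨a, ha, ha1⟩ : ∃ a ∈ ⁅A, P⁆, a ≠ 1 := by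
    by_contra e
    push Not at e
    have hle : A ≤ N₀ := fun k hk => by
      obtain ⟨n, hn', c, hc, rfl⟩ := hdec k hk
      rw [e n hn', one_mul]
      exact hNP (Subgroup.centralizer_le_normalizer _ hc.2)
    refine hII (A.map (MulAut.conj g).toMonoidHom) ?_ (elementary_map_conj hA g) ((card_map_conj A g).trans hAc)
    rintro _ ⟨k, hk, rfl⟩
    obtain ⟨n, hn', hnk⟩ := hle hk
    show g * k * g⁻¹ ∈ N
    rw [← hnk]
    show g * (g⁻¹ * n * g⁻¹⁻¹) * g⁻¹ ∈ N
    rwa [show g * (g⁻¹ * n * g⁻¹⁻¹) * g⁻¹ = n by group]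
  have haA : a ∈ A := CoprimeAction.commutator_le_of_normalizer hPA ha
  have hBσ : B ≤ Cfsg.sigmaCore M := le_sigmaCore hG hM htM (isPGroup_of_elementary hBe) (hB.trans inf_le_left)
  have haB : a ∈ Subgroup.centralizer (B : Set G) := Subgroup.centralizer_le hBσ (hcomm ha)
  have haN : a ∈ N := centralizer_le_maximal hG hN (hB.trans inf_le_right) hBe hBc haB
  have hao : orderOf a = q := orderOf_eq_prime (hA.2 a haA) ha1
  -- `q ∈ κ(N)`
  have hb₀ : g * b * g⁻¹ ∈ Cfsg.sigmaCore N := hg ⟨b, Subgroup.mem_zpowers b, rfl⟩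
  have hcN : g * c * g⁻¹ ∈ N := by
    obtain ⟨n, hn', hnc'⟩ := hNP (Subgroup.centralizer_le_normalizer _ hc.2)
    rw [← hnc']
    show g * (g⁻¹ * n * g⁻¹⁻¹) * g⁻¹ ∈ N
    rwa [show g * (g⁻¹ * n * g⁻¹⁻¹) * g⁻¹ = n by group]
  have hco : orderOf (g * c * g⁻¹) = q := by
    rw [orderOf_conj]
    exact orderOf_eq_prime (hA.2 c hc.1) hc1
  have hqk : q ∈ Cfsg.kappa N := by
    have hcb : c * b = b * c := (Subgroup.mem_centralizer_iff.1 hc.2 b (Subgroup.mem_zpowers b)).symm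
    rcases Cfsg.Agent.S1432.result hG N hN (g * b * g⁻¹) hb₀ (fun e => hb1 (conj_eq_one_iff.1 e))
      (g * c * g⁻¹) (Subgroup.mem_inf.2 ⟨hcN, Subgroup.mem_centralizer_singleton_iff.2 (by
        rw [show g * c * g⁻¹ * (g * b * g⁻¹) = g * (c * b) * g⁻¹ by group, hcb]; group)⟩)
      (fun e => hc1 (conj_eq_one_iff.1 e))
      (fun s hs hsd => by
        rw [hco] at hsd
        rwa [(Nat.prime_dvd_prime_iff_eq hs hq).1 hsd]) with ⟨hk, -⟩ | ⟨hτ, -, -⟩
    · exact hk q hq (hco ▸ dvd_rfl)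
    · obtain ⟨A', hA'N, hA', hA'c⟩ := exists_elem_of_not_prank (hτ q hq (hco ▸ dvd_rfl)).2.2.2
      exact (hII A' hA'N hA' hA'c).elim
  -- the Hall `κ`-subgroup through `a` moves `B`
  set E₁ := M ⊓ N with hE₁
  haveI : Group.IsSolvable E₁ := isSolvable_of_ne_top hG fun e => hN.1 (top_le_iff.1 (e ▸ inf_le_right))
  have haE : Subgroup.zpowers a ≤ E₁ := Subgroup.zpowers_le.2 ⟨hAM haA, haN⟩
  obtain ⟨F, haF, hF, -⟩ := exists_hall_over (π := Cfsg.kappa N) haE fun s hs hsd => by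
    rw [Nat.card_zpowers, hao] at hsd
    rwa [(Nat.prime_dvd_prime_iff_eq hs hq).1 hsd]
  have hFN : Cfsg.IsPiHallOf (Cfsg.kappa N) F N := ⟨hF.1.trans inf_le_right, hF.2.1, fun s hs hk hsd => by
    rw [← Subgroup.relIndex_mul_relIndex F E₁ N hF.1 inf_le_right] at hsd
    exact (hs.dvd_mul.1 hsd).elim (hF.2.2 s hs hk)
      ((hallOf_of_isComplIn hG hN h.compl).2.2 s hs ⟨hs, hk.2.2.1⟩)⟩
  have hF1 : F ≠ ⊥ := ne_bot_of_le_ne_bot (mt Subgroup.zpowers_eq_bot.1 ha1) haF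
  obtain ⟨U, -, hUE, hU, hEU, -, hlines⟩ := kappa_structure_of_complement hG hN hFN hF1 h.compl hF.1
  obtain ⟨-, -, hUa⟩ := hlines (Subgroup.zpowers a) haF (by rw [Nat.card_zpowers, hao]; exact hq)
  have hBU : B ≤ U := by
    haveI : (U.subgroupOf E₁).Normal := Subgroup.normal_subgroupOf_of_le_normalizer hEU
    intro w hw
    have h1 : (QuotientGroup.mk ⟨w, hB hw⟩ : E₁ ⧸ U.subgroupOf E₁) = 1 := by
      rw [← orderOf_eq_one_iff]
      by_contra hne1
      obtain ⟨s, hs, hsd⟩ := Nat.exists_prime_and_dvd hne1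
      have h2 : s ∣ orderOf w := hsd.trans ((orderOf_map_dvd (QuotientGroup.mk' (U.subgroupOf E₁)) _).trans
        (by rw [Subgroup.orderOf_mk]))
      have hst : s = t := (Nat.prime_dvd_prime_iff_eq hs ht).1
        (h2.trans (orderOf_dvd_of_pow_eq_one (hBe.2 w hw)))
      have h3 : s ∣ U.relIndex E₁ := hsd.trans (orderOf_dvd_natCard _)
      subst hst
      refine hU.2.2 s hs ⟨hs, fun hk => htN.2.2.2 (kappa_basic hG hN hk).2.1, htN.2.1⟩ ?_
      rw [← Subgroup.relIndex_mul_relIndex U E₁ N hUE inf_le_right]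
      exact dvd_mul_of_dvd_left h3 _
    exact Subgroup.mem_subgroupOf.1 ((QuotientGroup.eq_one_iff _).1 h1)
  refine hB1 (le_bot_iff.1 (hUa ▸ le_inf hBU ?_))
  rw [centralizer_zpowers, ← Subgroup.closure_eq B]
  exact (Subgroup.closure_le _).2 fun w hw => Subgroup.mem_centralizer_singleton_iff.2
    (Subgroup.mem_centralizer_iff.1 haB w hw)

/-- B&G 15.9 (b). -/
theorem conj_neighbour_in (hG : Cfsg.IsMinSimpleOddOrder G) (hM : IsCoatom M) {N' : Subgroup G} {y g : G}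
    (hy : y ∈ Cfsg.sigmaCore M) (hy1 : y ≠ 1) (h : IsNeighbour M N x) (h' : IsNeighbour M N' y)
    (hg : N'.map (MulAut.conj g).toMonoidHom = N) : ∃ m ∈ M, N'.map (MulAut.conj m).toMonoidHom = N := by
  have hN := h.coatom
  obtain ⟨n, hn, hnle⟩ := exists_conj_le_complement hG hN h.compl
    (Y := (M ⊓ N').map (MulAut.conj g).toMonoidHom) (hg ▸ Subgroup.map_mono inf_le_right) fun s hs hsd hss => by
      haveI := Fact.mk hs
      rw [card_map_conj] at hsd
      exact not_dvd_card_complement hG h'.coatom h'.compl hs ((mem_sigma_conj_iff g).1 (hg ▸ hss)) hsd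
  have hmemM : n * (g * y * g⁻¹) * n⁻¹ ∈ M :=
    (hnle ⟨_, ⟨y, ⟨(Subgroup.map_subtype_le _ : Cfsg.sigmaCore M ≤ M) hy, h'.mem⟩, rfl⟩, rfl⟩).1
  obtain ⟨r, hr, he⟩ := exists_support_conj hG hM hy hy1 (g := (n * g)⁻¹)
    ⟨_, hmemM, by show (n * g)⁻¹ * (n * (g * y * g⁻¹) * n⁻¹) * (n * g)⁻¹⁻¹ = y; group⟩
  rw [h'.support] at hr
  refine ⟨n * g * r, ?_, ?_⟩
  · rw [← normalizer_coatom hG hM (coatom_ne_bot hG hM)]
    refine Subgroup.mem_normalizer_iff_map_conj_eq.2 ?_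
    have h2 := congrArg (fun X : Subgroup G => X.map (MulAut.conj (n * g)).toMonoidHom) he
    simp only [map_conj_map, mul_inv_cancel, map_conj_one] at h2
    exact h2.symm
  · rw [← map_conj_map, map_eq_of_mem_normalizer
      ((Subgroup.map_subtype_le _ : Cfsg.sigmaCore N' ≤ N') hr.1), ← map_conj_map, hg,
      map_eq_of_mem_normalizer hn]

end CfsgLib.BGSets
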