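import Cfsg.Agent.Sigma.KappaStar
import Cfsg.Agent.S1432

/-!
B&G §16: the subgroup `U M_σ` and the set `A(M)`.
-/

set_option autoImplicit false
set_option linter.unusedSectionVars false
set_option linter.style.haveILetI false

namespace CfsgLib.BGSets

open CfsgLib.BenderUnique CfsgLib.Uniq CfsgLib.SigmaGroups

universe u

variable {G : Type u} [Group G] [Finite G] {M K U : Subgroup G}

/-- The primes of `U` lie outside `σ ∪ κ`. -/
theorem primes_U (hG : Cfsg.IsMinSimpleOddOrder G) (hM : IsCoatom M) (hKU : Cfsg.IsSigmaDecomposition M K U)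
    {p : ℕ} (hp : p.Prime) (hd : p ∣ Nat.card U) : p ∉ Cfsg.sigma M ∧ p ∉ Cfsg.kappa M := by
  have hU : Nat.card U ∣ (K ⊔ Cfsg.sigmaCore M).relIndex M := by
    rw [(TypeP.relIndex_eq_of_isComplIn hKU.compl).2]
  refine ⟨fun hs => ?_, fun hk => ?_⟩
  · exact (sigmaCore_hallOf hG hM).2.2 p hp hs
      (hd.trans (hU.trans (Subgroup.relIndex_dvd_of_le_left M le_sup_right)))
  · exact hKU.hall.2.2 p hp hk (hd.trans (hU.trans (Subgroup.relIndex_dvd_of_le_left M le_sup_left)))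

theorem K_eq_bot_iff_kappa (hKU : Cfsg.IsSigmaDecomposition M K U) : K = ⊥ ↔ Cfsg.kappa M = ∅ := by
  constructor
  · intro h
    refine Set.eq_empty_iff_forall_notMem.2 fun p hp => hKU.hall.2.2 p hp.1 hp ?_
    rw [h, Subgroup.relIndex_bot_left]
    exact hp.2.1
  · intro h
    by_contra h1
    obtain ⟨t, X, ht, hX, hXc⟩ := exists_line_le h1
    have := hKU.hall.2.1 t ht (hXc ▸ Subgroup.card_dvd_of_le hX)
    rw [h] at this
    exact this

/-- `U M_σ` consists of the elements of `M` of order prime to `κ(M)`. -/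
theorem mem_UMs_iff (hG : Cfsg.IsMinSimpleOddOrder G) (hM : IsCoatom M) (hKU : Cfsg.IsSigmaDecomposition M K U)
    {a : G} (ha : a ∈ M) :
    a ∈ U ⊔ Cfsg.sigmaCore M ↔ ∀ p : ℕ, p.Prime → p ∣ orderOf a → p ∉ Cfsg.kappa M := by
  set S := Cfsg.sigmaCore M with hS
  have hSM : S ≤ M := Subgroup.map_subtype_le _
  have hUM : U ≤ M := hKU.compl.1
  by_cases hK1 : K = ⊥
  · refine ⟨fun _ p _ _ hk => ?_, fun _ => ?_⟩
    · rw [(K_eq_bot_iff_kappa hKU).1 hK1] at hk
      exact hk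
    · obtain ⟨u, hu, w, hw, rfl⟩ := hKU.compl.2.2.2 a ha
      rw [hK1, bot_sup_eq] at hw
      exact Subgroup.mul_mem_sup hu hw
  obtain ⟨E, U', hE, -, -, hU'E, hU', hEn, hEKU, -⟩ := kappa_complement_structure hG hM hKU.hall hK1
  have hU'M : U' ≤ M := hU'.1
  set N := U' ⊔ S with hN
  have hNM : N ≤ M := sup_le hU'M hSM
  have hU'S : U' ≤ Subgroup.normalizer (S : Set G) := hU'M.trans (le_normalizer_sigmaCore M)
  have hMN : M ≤ Subgroup.normalizer (N : Set G) := by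
    intro m hm
    obtain ⟨e, he, s, hs, rfl⟩ := hE.2.2.2 m hm
    refine mul_mem ?_ (Subgroup.le_normalizer (Subgroup.mem_sup_right hs))
    rw [Subgroup.mem_normalizer_iff_map_conj_eq, hN, Subgroup.map_sup,
      Subgroup.mem_normalizer_iff_map_conj_eq.1 (hEn he),
      Subgroup.mem_normalizer_iff_map_conj_eq.1 (le_normalizer_sigmaCore M (hE.1 he))]
  have hcard : Nat.card N ∣ Nat.card U' * Nat.card S := by
    rw [← ZJ.card_sup_mul_card_inf_of_le_normalizer hU'S]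
    exact dvd_mul_right _ _
  have hNk : ∀ p : ℕ, p.Prime → p ∣ Nat.card N → p ∉ Cfsg.kappa M := by
    intro p hp hd hk
    rcases hp.dvd_mul.1 (hd.trans hcard) with h | h
    · exact (hU'.2.1 p hp h).2.1 hk
    · exact hk.2.2.1 (mem_sigma_of_dvd M hp h)
  have hKN : K ≤ Subgroup.normalizer (N : Set G) := hKU.hall.1.trans hMN
  have hMKN : M ≤ K ⊔ N := by
    intro m hm
    obtain ⟨e, he, s, hs, rfl⟩ := hE.2.2.2 m hm
    exact mul_mem ((sup_le le_sup_left (le_sup_left.trans le_sup_right) : K ⊔ U' ≤ K ⊔ N) (hEKU he))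
      (Subgroup.mem_sup_right (Subgroup.mem_sup_right hs))
  have hcrit : ∀ b ∈ M, (∀ p : ℕ, p.Prime → p ∣ orderOf b → p ∉ Cfsg.kappa M) → b ∈ N := by
    intro b hb hbk
    obtain ⟨k, hk, n, hn, rfl⟩ := CoprimeAction.exists_mul_of_mem_sup hKN (hMKN hb)
    have hkM := hKU.hall.1 hk
    haveI : (N.subgroupOf M).Normal := Subgroup.normal_subgroupOf_of_le_normalizer hMN
    let q := QuotientGroup.mk' (N.subgroupOf M)
    have hq : q ⟨k * n, hb⟩ = q ⟨k, hkM⟩ := by
      rw [show (⟨k * n, hb⟩ : M) = ⟨k, hkM⟩ * ⟨n, hNM hn⟩ from rfl, map_mul,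
        show q ⟨n, hNM hn⟩ = 1 from (QuotientGroup.eq_one_iff _).2 hn, mul_one]
    have h1 : orderOf (q ⟨k, hkM⟩) = 1 := by
      by_contra hne
      obtain ⟨p, hp, hpd⟩ := Nat.exists_prime_and_dvd hne
      have hd1 : p ∣ Nat.card K := hpd.trans ((orderOf_map_dvd q _).trans
        (by rw [Subgroup.orderOf_mk]; exact Subgroup.orderOf_dvd_natCard K hk))
      have hd2 : p ∣ orderOf (k * n) := hpd.trans (by
        rw [← hq]
        exact (orderOf_map_dvd q _).trans (by rw [Subgroup.orderOf_mk]))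
      exact hbk p hp hd2 (hKU.hall.2.1 p hp hd1)
    rw [orderOf_eq_one_iff] at h1
    exact mul_mem (Subgroup.mem_subgroupOf.1 ((QuotientGroup.eq_one_iff (N := N.subgroupOf M) ⟨k, hkM⟩).1 h1)) hn
  have hUN : U ≤ N := fun u hu => hcrit u (hUM hu) fun p hp hd =>
    (primes_U hG hM hKU hp (hd.trans (Subgroup.orderOf_dvd_natCard U hu))).2
  have heq : U ⊔ S = N := by
    refine le_antisymm (sup_le hUN le_sup_right) fun n hn => ?_
    obtain ⟨u, hu, w, hw, rfl⟩ := hKU.compl.2.2.2 n (hNM hn)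
    have hwN : w ∈ N := (Subgroup.mul_mem_cancel_left N (hUN hu)).1 hn
    obtain ⟨k, hk, s, hs, rfl⟩ :=
      CoprimeAction.exists_mul_of_mem_sup (hKU.hall.1.trans (le_normalizer_sigmaCore M)) hw
    have hkN : k ∈ N := (Subgroup.mul_mem_cancel_right N (Subgroup.mem_sup_right hs)).1 hwN
    have hk1 : k = 1 := by
      rw [← orderOf_eq_one_iff]
      by_contra hne
      obtain ⟨p, hp, hpd⟩ := Nat.exists_prime_and_dvd hne
      exact hNk p hp (hpd.trans (Subgroup.orderOf_dvd_natCard N hkN))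
        (hKU.hall.2.1 p hp (hpd.trans (Subgroup.orderOf_dvd_natCard K hk)))
    rw [hk1, one_mul]
    exact Subgroup.mul_mem_sup hu hs
  rw [heq]
  exact ⟨fun h p hp hd => hNk p hp (hd.trans (Subgroup.orderOf_dvd_natCard N h)), fun h => hcrit a ha h⟩

theorem orderOf_conj (g a : G) : orderOf (g * a * g⁻¹) = orderOf a :=
  orderOf_injective (MulAut.conj g).toMonoidHom (MulAut.conj g).injective a

theorem le_normalizer_UMs (hG : Cfsg.IsMinSimpleOddOrder G) (hM : IsCoatom M)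
    (hKU : Cfsg.IsSigmaDecomposition M K U) :
    M ≤ Subgroup.normalizer ((U ⊔ Cfsg.sigmaCore M : Subgroup G) : Set G) := by
  intro m hm
  refine Subgroup.mem_normalizer_iff.2 fun a => ?_
  have hle : U ⊔ Cfsg.sigmaCore M ≤ M := sup_le hKU.compl.1 (Subgroup.map_subtype_le _)
  refine ⟨fun h => ?_, fun h => ?_⟩
  · have haM := hle h
    rw [mem_UMs_iff hG hM hKU (mul_mem (mul_mem hm haM) (inv_mem hm)), orderOf_conj]
    exact (mem_UMs_iff hG hM hKU haM).1 h
  · have haM : a ∈ M := by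
      have := mul_mem (mul_mem (inv_mem hm) (hle h)) hm
      simpa [mul_assoc] using this
    rw [mem_UMs_iff hG hM hKU haM, ← orderOf_conj m a]
    exact (mem_UMs_iff hG hM hKU (hle h)).1 h

theorem exists_prime_not_sigma (hG : Cfsg.IsMinSimpleOddOrder G) (hM : IsCoatom M) {a : G} (haM : a ∈ M)
    (haS : a ∉ Cfsg.sigmaCore M) : ∃ p : ℕ, p.Prime ∧ p ∣ orderOf a ∧ p ∉ Cfsg.sigma M := by
  by_contra h
  push Not at h
  exact haS (le_sigmaCore_of_sigma hG hM (Subgroup.zpowers_le.2 haM)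
    (fun t ht hd => h t ht (Nat.card_zpowers a ▸ hd)) (Subgroup.mem_zpowers a))

/-- For an element of `A(M)` and a prime `p` outside `σ` dividing its order: the power of order `p` has centralizer
in `M` only. -/
theorem unique_power (hG : Cfsg.IsMinSimpleOddOrder G) (hM : IsCoatom M)
    (hKU : Cfsg.IsSigmaDecomposition M K U) {a : G} (ha : a ∈ Cfsg.sigmaA M U) {p : ℕ} (hp : p.Prime)
    (hd : p ∣ orderOf a) (hps : p ∉ Cfsg.sigma M) :
    Subgroup.centralizer ({a ^ (orderOf a / p)} : Set G) ≤ M ∧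
      ∀ L : Subgroup G, IsCoatom L → Subgroup.centralizer ({a ^ (orderOf a / p)} : Set G) ≤ L → L = M := by
  obtain ⟨⟨haM, y, hy, hy1, hay⟩, haU⟩ := ha
  set j := orderOf a / p with hj
  have h0 := orderOf_pos a
  have ho : orderOf (a ^ j) = p := by
    have hj' : j * p = orderOf a := Nat.div_mul_cancel hd
    have hjpos : 0 < j := Nat.pos_of_mul_pos_right (hj'.symm ▸ h0)
    rw [orderOf_pow_of_dvd hjpos.ne' ⟨p, hj'.symm⟩, ← hj', Nat.mul_div_cancel_left _ hjpos]
  have h1 : a ^ j ≠ 1 := fun h => hp.ne_one (by rw [← ho, h, orderOf_one])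
  have hprimes : ∀ t : ℕ, t.Prime → t ∣ orderOf (a ^ j) → t = p := fun t ht htd =>
    (Nat.prime_dvd_prime_iff_eq ht hp).1 (ho ▸ htd)
  rcases Cfsg.Agent.S1432.result hG M hM y hy hy1 (a ^ j)
      (Subgroup.mem_inf.2 ⟨pow_mem haM j, Subgroup.mem_centralizer_singleton_iff.2
        ((show Commute a y from hay).pow_left j).eq⟩) h1
      (fun t ht htd => (hprimes t ht htd).symm ▸ hps) with ⟨hk, -⟩ | ⟨-, -, hc⟩
  · exact absurd (hk p hp (ho ▸ dvd_rfl)) ((mem_UMs_iff hG hM hKU haM).1 haU p hp hd)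
  · exact hc

theorem conj_mem_sigmaA_diff (hG : Cfsg.IsMinSimpleOddOrder G) (hM : IsCoatom M)
    (hKU : Cfsg.IsSigmaDecomposition M K U) {m a : G} (hm : m ∈ M)
    (ha : a ∈ Cfsg.sigmaA M U \ (Cfsg.sigmaCore M : Set G)) :
    m * a * m⁻¹ ∈ Cfsg.sigmaA M U \ (Cfsg.sigmaCore M : Set G) := by
  obtain ⟨⟨⟨haM, y, hy, hy1, hay⟩, haU⟩, haS⟩ := ha
  have hn := le_normalizer_sigmaCore M hm
  refine ⟨⟨⟨mul_mem (mul_mem hm haM) (inv_mem hm), m * y * m⁻¹, (Subgroup.mem_normalizer_iff.1 hn y).1 hy,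
    fun h => hy1 (conj_eq_one_iff.1 h), ?_⟩, (Subgroup.mem_normalizer_iff.1 (le_normalizer_UMs hG hM hKU hm) a).1 haU⟩,
    fun h => haS ((Subgroup.mem_normalizer_iff.1 hn a).2 h)⟩
  calc m * a * m⁻¹ * (m * y * m⁻¹) = m * (a * y) * m⁻¹ := by group
    _ = m * (y * a) * m⁻¹ := by rw [hay]
    _ = _ := by group

/-- `A(M) \ M_σ` is a TI-subset. -/
theorem sigmaA_diff_TI (hG : Cfsg.IsMinSimpleOddOrder G) (hM : IsCoatom M)
    (hKU : Cfsg.IsSigmaDecomposition M K U) :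
    Cfsg.IsTISubset (Cfsg.sigmaA M U \ (Cfsg.sigmaCore M : Set G)) := by
  intro g hg a ha hga
  exfalso
  apply hg
  obtain ⟨p, hp, hd, hps⟩ := exists_prime_not_sigma hG hM ha.1.1.1 ha.2
  have hle := (unique_power hG hM hKU ha.1 hp hd hps).1
  have huniq := (unique_power hG hM hKU hga.1 hp (by rw [orderOf_conj]; exact hd) hps).2
  rw [orderOf_conj, conj_pow] at huniq
  set i := orderOf a / p with hi
  have hgM : g ∈ M := by
    rw [← normalizer_coatom hG hM (coatom_ne_bot hG hM)]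
    refine Subgroup.mem_normalizer_iff_map_conj_eq.2 (huniq _ (isCoatom_map _ hM) ?_)
    intro c hc
    have hc' : g⁻¹ * c * g ∈ Subgroup.centralizer ({a ^ i} : Set G) := by
      rw [Subgroup.mem_centralizer_singleton_iff]
      have h := Subgroup.mem_centralizer_singleton_iff.1 hc
      calc g⁻¹ * c * g * a ^ i = g⁻¹ * (c * (g * a ^ i * g⁻¹)) * g := by group
        _ = g⁻¹ * (g * a ^ i * g⁻¹ * c) * g := by rw [h]
        _ = _ := by group
    exact ⟨g⁻¹ * c * g, hle hc', show g * (g⁻¹ * c * g) * g⁻¹ = c by group⟩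
  rw [Subgroup.mem_normalizer_iff_conj_image_eq]
  ext b
  refine ⟨fun ⟨c, hc, hcb⟩ => hcb ▸ conj_mem_sigmaA_diff hG hM hKU hgM hc, fun hb => ⟨g⁻¹ * b * g, ?_, ?_⟩⟩
  · have := conj_mem_sigmaA_diff hG hM hKU (inv_mem hgM) hb
    rwa [inv_inv] at this
  · show g * (g⁻¹ * b * g) * g⁻¹ = b
    group

end CfsgLib.BGSets
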