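import Cfsg.Agent.Sigma.SigmaPartition
import Cfsg.Agent.BGSets.SigmaA

/-!
B&G 14.4 and 14.6: the maximal subgroup containing the centralizer of an element of `M_σ`.
-/

set_option autoImplicit false
set_option linter.unusedSectionVars false
set_option linter.style.haveILetI false

namespace CfsgLib.BGSets

open CfsgLib.BenderUnique CfsgLib.Uniq CfsgLib.SigmaGroups

universe u

variable {G : Type u} [Group G] [Finite G] {M N K U : Subgroup G} {x : G}

/-- The data attached to the neighbour `N` of `x ∈ M_σ`. -/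
structure IsNeighbour (M N : Subgroup G) (x : G) : Prop where
  coatom : IsCoatom N
  cent_le : Subgroup.centralizer ({x} : Set G) ≤ N
  unique : ∀ L : Subgroup G, IsCoatom L → Subgroup.centralizer ({x} : Set G) ≤ L → L = N
  not_conj : ∀ g : G, N ≠ M.map (MulAut.conj g).toMonoidHom
  tau2 : ∀ t : ℕ, t.Prime → t ∣ orderOf x → t ∈ Cfsg.tau2 N
  nilpotent : Group.IsNilpotent (Cfsg.sigmaCore N)
  compl : Cfsg.IsComplIn (M ⊓ N) (Cfsg.sigmaCore N) N
  support : Cfsg.supportR M x = Cfsg.sigmaCore N ⊓ Subgroup.centralizer ({x} : Set G)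
  cent_compl : Cfsg.IsComplIn (M ⊓ Subgroup.centralizer ({x} : Set G))
    (Cfsg.sigmaCore N ⊓ Subgroup.centralizer ({x} : Set G)) (Subgroup.centralizer ({x} : Set G))

theorem exists_isNeighbour (hG : Cfsg.IsMinSimpleOddOrder G) (hM : IsCoatom M) (hx : x ∈ Cfsg.sigmaCore M)
    (hx1 : x ≠ 1) (hxM : ¬ Subgroup.centralizer ({x} : Set G) ≤ M) :
    ∃ N : Subgroup G, IsNeighbour M N x := by
  obtain ⟨N, hN, hxN, huniq, hnc, hτ, hn, ⟨E, hE, hEM⟩, hR⟩ := neighbour_data hG hM hx hx1 hxM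
  set S := Cfsg.sigmaCore N with hS
  set C := Subgroup.centralizer ({x} : Set G) with hC
  have hxC : x ∈ C := Subgroup.mem_centralizer_singleton_iff.2 rfl
  obtain ⟨t, ht, hd⟩ := Nat.exists_prime_and_dvd fun h => hx1 (orderOf_eq_one_iff.1 h)
  haveI := Fact.mk ht
  obtain ⟨z, hz, hzo⟩ := exists_elem_prime (p := t) (H := Subgroup.zpowers x) (by rwa [Nat.card_zpowers])
  obtain ⟨-, -, hdis⟩ := line_neighbour hG hM hx hN hxM hxN huniq hz hzo
  have hSn : N ≤ Subgroup.normalizer (S : Set G) := le_normalizer_sigmaCore N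
  have hc1 : Cfsg.IsComplIn (M ⊓ N) S N := by
    refine ⟨inf_le_right, Subgroup.map_subtype_le _, le_bot_iff.1 ?_, fun n hn => ?_⟩
    · rw [← hdis]
      exact le_inf inf_le_right (inf_le_left.trans inf_le_left)
    · obtain ⟨e, he, s, hs, rfl⟩ := hE.2.2.2 n hn
      exact ⟨e, ⟨hEM he, hE.1 he⟩, s, hs, rfl⟩
  refine ⟨N, hN, hxN, huniq, hnc, hτ, hn, hc1, le_antisymm (fun b hb => ?_) hR, ?_⟩
  · have hcond : ¬ Subgroup.centralizer ({x} : Set G) ≤ M ∧
        ∃! L' : Subgroup G, IsCoatom L' ∧ Subgroup.centralizer ({x} : Set G) ≤ L' :=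
      ⟨hxM, N, ⟨hN, hxN⟩, fun L' h => huniq L' h.1 h.2⟩
    rw [Cfsg.supportR, dif_pos hcond] at hb
    have hch := Classical.choose_spec hcond.2.exists
    rw [huniq _ hch.1 hch.2] at hb
    exact ⟨fittingHallOf_le_sigmaCore hG hN hb.1, hb.2⟩
  refine ⟨inf_le_right, inf_le_right, le_bot_iff.1 ?_, fun c hc => ?_⟩
  · rw [← hdis]
    exact le_inf (inf_le_right.trans inf_le_left) (inf_le_left.trans inf_le_left)
  obtain ⟨e, he, s, hs, rfl⟩ := hc1.2.2.2 c (hxN hc)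
  have hxMN : x ∈ M ⊓ N := ⟨(Subgroup.map_subtype_le _ : Cfsg.sigmaCore M ≤ M) hx, hxN hxC⟩
  have hc' : e * s * x = x * (e * s) := Subgroup.mem_centralizer_singleton_iff.1 hc
  have h1 : s * x * s⁻¹ * x⁻¹ = e⁻¹ * x * e * x⁻¹ := by
    calc s * x * s⁻¹ * x⁻¹ = e⁻¹ * (e * s * x) * (e * s)⁻¹ * e * x⁻¹ := by group
      _ = e⁻¹ * (x * (e * s)) * (e * s)⁻¹ * e * x⁻¹ := by rw [hc']
      _ = _ := by group
  have h2 : s * x * s⁻¹ * x⁻¹ ∈ S := by
    rw [show s * x * s⁻¹ * x⁻¹ = s * (x * s⁻¹ * x⁻¹) by group]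
    exact mul_mem hs ((Subgroup.mem_normalizer_iff.1 (hSn hxMN.2) _).1 (inv_mem hs))
  have h3 : s * x * s⁻¹ * x⁻¹ ∈ M ⊓ N := by
    rw [h1]
    exact mul_mem (mul_mem (mul_mem (inv_mem he) hxMN) he) (inv_mem hxMN)
  have h4 : s * x * s⁻¹ * x⁻¹ = 1 := Subgroup.mem_bot.1 (hc1.2.2.1 ▸ ⟨h3, h2⟩)
  have hsC : s ∈ C := Subgroup.mem_centralizer_singleton_iff.2
    (mul_inv_eq_iff_eq_mul.1 (mul_inv_eq_one.1 h4))
  exact ⟨e, ⟨he.1, (Subgroup.mul_mem_cancel_right C hsC).1 hc⟩, s, ⟨hs, hsC⟩, rfl⟩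

theorem IsNeighbour.eq (h : IsNeighbour M N x) {L : Subgroup G} (hL : IsCoatom L)
    (hxL : Subgroup.centralizer ({x} : Set G) ≤ L) : L = N := h.unique L hL hxL

theorem IsNeighbour.mem (h : IsNeighbour M N x) : x ∈ N :=
  h.cent_le (Subgroup.mem_centralizer_singleton_iff.2 rfl)

theorem IsNeighbour.disjoint (h : IsNeighbour M N x) : Cfsg.sigmaCore N ⊓ M = ⊥ :=
  le_bot_iff.1 (h.compl.2.2.1 ▸ le_inf (le_inf inf_le_right (inf_le_left.trans (Subgroup.map_subtype_le _)))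
    inf_le_left)

theorem IsNeighbour.notMem_sigmaCore (h : IsNeighbour M N x) (hx : x ∈ Cfsg.sigmaCore M) (hx1 : x ≠ 1) :
    x ∉ Cfsg.sigmaCore N := fun hs =>
  hx1 (Subgroup.mem_bot.1 (h.disjoint ▸ ⟨hs, (Subgroup.map_subtype_le _ : Cfsg.sigmaCore M ≤ M) hx⟩))

theorem IsNeighbour.support_ne_bot (h : IsNeighbour M N x) (hxM : ¬ Subgroup.centralizer ({x} : Set G) ≤ M) :
    Cfsg.sigmaCore N ⊓ Subgroup.centralizer ({x} : Set G) ≠ ⊥ := fun h1 => hxM fun c hc => by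
  obtain ⟨e, he, s, hs, rfl⟩ := h.cent_compl.2.2.2 c hc
  rw [h1, Subgroup.mem_bot] at hs
  rw [hs, mul_one]
  exact he.1

theorem IsNeighbour.eq_fittingHall (hG : Cfsg.IsMinSimpleOddOrder G) (h : IsNeighbour M N x) :
    Cfsg.sigmaCore N = Cfsg.fittingHallOf N :=
  le_antisymm (sigmaCore_le_fittingHallOf hG h.coatom h.nilpotent) (fittingHallOf_le_sigmaCore hG h.coatom)

theorem IsNeighbour.cent_normalizes (h : IsNeighbour M N x) :
    Subgroup.centralizer ({x} : Set G) ≤ Subgroup.normalizer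
      ((Cfsg.sigmaCore N ⊓ Subgroup.centralizer ({x} : Set G) : Subgroup G) : Set G) :=
  (le_inf (h.cent_le.trans (le_normalizer_sigmaCore N)) Subgroup.le_normalizer).trans
    Subgroup.inf_normalizer_le_normalizer_inf

/-- B&G 14.4. -/
theorem support_complement (hG : Cfsg.IsMinSimpleOddOrder G) (hM : IsCoatom M) (hx : x ∈ Cfsg.sigmaCore M)
    (hx1 : x ≠ 1) :
    (Nat.card ↥(M ⊓ Subgroup.centralizer ({x} : Set G))).Coprime
      ((M ⊓ Subgroup.centralizer ({x} : Set G)).relIndex (Subgroup.centralizer ({x} : Set G))) ∧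
    Subgroup.centralizer ({x} : Set G) ≤ Subgroup.normalizer (Cfsg.supportR M x : Set G) ∧
    Cfsg.IsComplIn (M ⊓ Subgroup.centralizer ({x} : Set G)) (Cfsg.supportR M x)
      (Subgroup.centralizer ({x} : Set G)) ∧
    ∀ g : G, x ∈ M.map (MulAut.conj g).toMonoidHom → ∃! r : G, r ∈ Cfsg.supportR M x ∧
      M.map (MulAut.conj r).toMonoidHom = M.map (MulAut.conj g).toMonoidHom := by
  by_cases hxM : Subgroup.centralizer ({x} : Set G) ≤ M
  · have h0 : Cfsg.supportR M x = ⊥ := by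
      rw [Cfsg.supportR, dif_neg fun h => h.1 hxM]
    rw [h0]
    have hc : Cfsg.IsComplIn (M ⊓ Subgroup.centralizer ({x} : Set G)) ⊥ (Subgroup.centralizer ({x} : Set G)) :=
      ⟨inf_le_right, bot_le, inf_bot_eq _, fun c hc => ⟨c, ⟨hxM hc, hc⟩, 1, one_mem _, (mul_one c).symm⟩⟩
    refine ⟨?_, fun c _ => ?_, hc, fun g hg => ⟨1, ⟨one_mem _, ?_⟩, fun r hr => Subgroup.mem_bot.1 hr.1⟩⟩
    · rw [(TypeP.relIndex_eq_of_isComplIn hc).1, Subgroup.card_bot]
      exact Nat.coprime_one_right _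
    · rw [Subgroup.mem_normalizer_iff]
      intro n
      simp
    · obtain ⟨r, hr, he⟩ := exists_support_conj hG hM hx hx1 hg
      rw [h0, Subgroup.mem_bot] at hr
      rw [he, hr]
  obtain ⟨N, h⟩ := exists_isNeighbour hG hM hx hx1 hxM
  rw [h.support]
  refine ⟨?_, h.cent_normalizes, h.cent_compl, fun g hg => ?_⟩
  · rw [(TypeP.relIndex_eq_of_isComplIn h.cent_compl).1]
    refine Nat.coprime_of_dvd fun t ht h1 h2 => ?_
    refine not_dvd_card_complement hG h.coatom h.compl ht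
      (mem_sigma_of_dvd N ht (h2.trans (Subgroup.card_dvd_of_le inf_le_left))) (h1.trans ?_)
    exact Subgroup.card_dvd_of_le (le_inf inf_le_left (inf_le_right.trans h.cent_le))
  obtain ⟨r, hr, he⟩ := exists_support_conj hG hM hx hx1 hg
  rw [h.support] at hr
  refine ⟨r, ⟨hr, he.symm⟩, fun s ⟨hs, hse⟩ => ?_⟩
  have h1 : r⁻¹ * s ∈ M := by
    rw [← normalizer_coatom hG hM (coatom_ne_bot hG hM)]
    refine Subgroup.mem_normalizer_iff_map_conj_eq.2 ?_
    have h2 := congrArg (fun X : Subgroup G => X.map (MulAut.conj r⁻¹).toMonoidHom) (hse.trans he)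
    simp only [map_conj_map, inv_mul_cancel, map_conj_one] at h2
    exact h2
  exact (inv_mul_eq_one.1 (Subgroup.mem_bot.1 (h.disjoint ▸ Subgroup.mem_inf.2 ⟨mul_mem (Subgroup.inv_mem _ hr.1) hs.1, h1⟩))).symm

/-- B&G 14.6. -/
theorem IsNeighbour.sigmaA_data (hG : Cfsg.IsMinSimpleOddOrder G) (h : IsNeighbour M N x)
    (hx : x ∈ Cfsg.sigmaCore M) (hx1 : x ≠ 1) (hxM : ¬ Subgroup.centralizer ({x} : Set G) ≤ M)
    (hKU : Cfsg.IsSigmaDecomposition N K U) : U ≠ ⊥ ∧ x ∈ Cfsg.sigmaA N U := by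
  have hxU : x ∈ U ⊔ Cfsg.sigmaCore N := (mem_UMs_iff hG h.coatom hKU h.mem).2 fun p hp hd hk => by
    haveI := Fact.mk hp
    exact (h.tau2 p hp hd).2.2.2 (kappa_basic hG h.coatom hk).2.1
  refine ⟨fun hU => h.notMem_sigmaCore hx hx1 (by rwa [hU, bot_sup_eq] at hxU), ?_, hxU⟩
  obtain ⟨y, ⟨hy, hyx⟩, hy1⟩ := (Subgroup.bot_or_exists_ne_one _).resolve_left (h.support_ne_bot hxM)
  exact ⟨h.mem, y, hy, hy1, (Subgroup.mem_centralizer_singleton_iff.1 hyx).symm⟩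

end CfsgLib.BGSets
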