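import Cfsg.Agent.BGFifteen.Structure
import Cfsg.Agent.Sigma.KappaDecomp
import Cfsg.Agent.Sigma.SupportCount
import Cfsg.Agent.Sigma.TypeOneTwo
import Cfsg.Agent.BGFifteen.FittingEq
import Cfsg.Agent.BGSets.SigmaA
import Cfsg.Agent.S1417
import Cfsg.Agent.S1431

/-!
B&G 15.4: Hall subgroups of `M_σ`.
-/

set_option autoImplicit false
set_option linter.unusedSectionVars false
set_option linter.style.haveILetI false

namespace CfsgLib.BGSets

open CfsgLib.BenderUnique CfsgLib.Uniq CfsgLib.SigmaGroups CfsgLib.BGFifteen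

universe u

variable {G : Type u} [Group G] [Finite G] {M H : Subgroup G}

/-- A nilpotent group has one Hall `π`-subgroup only. -/
theorem hall_unique_of_nilpotent {X : Type*} [Group X] [Finite X] {π : Set ℕ} {S A B : Subgroup X}
    (hn : Group.IsNilpotent S) (hA : Cfsg.IsPiHallOf π A S) (hB : Cfsg.IsPiHallOf π B S) : A = B := by
  haveI := hn
  suffices h : ∀ C : Subgroup X, Cfsg.IsPiHallOf π C S → C = (Cfsg.piCore π ↥S).map S.subtype by
    rw [h A hA, h B hB]
  intro C hC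
  rw [Hall.isPiHallOf_iff] at hC
  obtain ⟨hCS, hC'⟩ := hC
  have hn4 : ∀ (t : ℕ) (_ : Fact t.Prime) (P : Sylow t ↥S), (P : Subgroup ↥S).Normal :=
    ((Group.isNilpotent_of_finite_tfae (G := ↥S)).out 0 3).1 hn
  have hP : Cfsg.IsPiHall π (Cfsg.piCore π ↥S) := by
    refine ⟨Hall.isPiSubgroup_piCore, fun t ht htπ hd => ?_⟩
    haveI := Fact.mk ht
    obtain ⟨P⟩ : Nonempty (Sylow t ↥S) := inferInstance
    haveI := hn4 t inferInstance P
    refine P.not_dvd_index (hd.trans (Subgroup.index_dvd_of_le (Hall.le_piCore ?_)))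
    exact Hall.isPiSubgroup_of_isPGroup ht htπ P.isPGroup'
  obtain ⟨g, hg⟩ := Hall.pi_conj hP hC'
  have h1 : Cfsg.piCore π ↥S = C.subgroupOf S := by
    rw [← hg]
    exact (Subgroup.Normal.conj_smul_eq_self g (Cfsg.piCore π ↥S)).symm
  rw [h1, Subgroup.map_subgroupOf_eq_of_le hCS]

/-- A Hall subgroup `H` of `M_σ` has a normal complement part `Q` with `H Q` normal in `M`. -/
theorem hall_sigma_data (hG : Cfsg.IsMinSimpleOddOrder G) (hM : IsCoatom M) (hH : H ≤ Cfsg.sigmaCore M)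
    (hHall : (Nat.card H).Coprime (H.relIndex (Cfsg.sigmaCore M))) :
    ∃ Q : Subgroup G, Q ≤ Cfsg.sigmaCore M ∧ M ≤ Subgroup.normalizer (Q : Set G) ∧
      M ≤ Subgroup.normalizer ((H ⊔ Q : Subgroup G) : Set G) ∧ (Q ≤ H ∨ Q ⊓ H = ⊥) := by
  set S := Cfsg.sigmaCore M with hS
  have hSM : S ≤ M := Subgroup.map_subtype_le _
  set π : Set ℕ := {t | t.Prime ∧ t ∣ Nat.card H} with hπ
  have hHp : Cfsg.IsPiHallOf π H S := ⟨hH, fun t ht hd => ⟨ht, hd⟩, fun t ht htπ hd =>
    Nat.not_coprime_of_dvd_of_dvd ht.one_lt htπ.2 hd hHall⟩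
  -- a normal subgroup `Q₀` of `M` with nilpotent quotient, meeting `H` only trivially unless inside it
  obtain ⟨Q₀, hQ₀, hQ₀S, hnil, hQH⟩ : ∃ Q₀ : Subgroup ↥M, Q₀.Normal ∧ Q₀.map M.subtype ≤ S ∧
      (∀ [Q₀.Normal], Group.IsNilpotent ↥((S.subgroupOf M).map (QuotientGroup.mk' Q₀))) ∧
      (Q₀.map M.subtype ≤ H ∨ Q₀.map M.subtype ⊓ H = ⊥) := by
    by_cases hn : Group.IsNilpotent S
    · refine ⟨⊥, inferInstance, by simp, fun {_} => ?_, Or.inr (by simp)⟩
      haveI := hn
      haveI : Group.IsNilpotent ↥(S.subgroupOf M) :=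
        Group.nilpotent_of_mulEquiv (Subgroup.subgroupOfEquivOfLe hSM).symm
      exact Group.nilpotent_of_surjective ((QuotientGroup.mk' (⊥ : Subgroup ↥M)).subgroupMap (S.subgroupOf M))
        (MonoidHom.subgroupMap_surjective _ _)
    · obtain ⟨E, hE⟩ := BGFifteen.exists_complement hG hM
      obtain ⟨-, -, -, hq, Q, hQn, hQS, -, hQp, hQi, -, hQnil⟩ := core_of_not_nilpotent hG hM hn hE
      refine ⟨Q, hQn, hQS, fun {_} => hQnil, ?_⟩
      set q := Nat.card ↥(Cfsg.sigmaCore M ⊓ Subgroup.centralizer (E : Set G))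
      haveI := Fact.mk hq
      have hQ'p : IsPGroup q (Q.map M.subtype) := hQp.map _
      by_cases hqH : q ∣ Nat.card H
      · left
        refine le_of_prime_relIndex fun s hs hsd hi => ?_
        obtain ⟨n, hn'⟩ := hQ'p.exists_card_eq
        rw [hn'] at hsd
        obtain rfl := (Nat.prime_dvd_prime_iff_eq hs hq).1 (hs.dvd_of_dvd_pow hsd)
        have h1 : (Nat.card H).Coprime (H.relIndex S) := hHall
        refine Nat.not_coprime_of_dvd_of_dvd hs.one_lt hqH (hi.trans ?_) h1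
        have hQ'n : M ≤ Subgroup.normalizer (Q.map M.subtype : Set G) := PReduced.le_normalizer_map_subtype M Q
        have hdd : H.relIndex (H ⊔ Q.map M.subtype) ∣ H.relIndex S :=
          Dvd.intro _ (Subgroup.relIndex_mul_relIndex H _ S le_sup_left (sup_le hH hQS))
        have heq : H.relIndex (H ⊔ Q.map M.subtype) = H.relIndex (Q.map M.subtype) := by
          rw [sup_comm]
          haveI : ((Q.map M.subtype).subgroupOf (Q.map M.subtype ⊔ H)).Normal :=
            Subgroup.normal_subgroupOf_of_le_normalizer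
              (sup_le Subgroup.le_normalizer ((hH.trans hSM).trans hQ'n))
          have h2 := ZJ.card_sup_mul_card_inf_of_le_normalizer ((hH.trans hSM).trans hQ'n)
          have h3 : Nat.card ↥(H ⊓ Q.map M.subtype) * H.relIndex (Q.map M.subtype) =
              Nat.card ↥(Q.map M.subtype) := by
            rw [← Subgroup.relIndex_bot_left, ← Subgroup.relIndex_bot_left,
              ← Subgroup.inf_relIndex_right H (Q.map M.subtype)]
            exact Subgroup.relIndex_mul_relIndex _ _ _ bot_le inf_le_right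
          have h4 : Nat.card H * H.relIndex (Q.map M.subtype ⊔ H) = Nat.card ↥(H ⊔ Q.map M.subtype) := by
            rw [sup_comm H, ← Subgroup.relIndex_bot_left, ← Subgroup.relIndex_bot_left]
            exact Subgroup.relIndex_mul_relIndex _ _ _ bot_le le_sup_right
          rw [← h4, mul_comm, ← mul_assoc] at h2
          have h5 : Nat.card H * (Nat.card ↥(H ⊓ Q.map M.subtype) * H.relIndex (Q.map M.subtype ⊔ H)) =
              Nat.card H * (Nat.card ↥(H ⊓ Q.map M.subtype) * H.relIndex (Q.map M.subtype)) := by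
            rw [h3, ← h2]
            ring
          exact Nat.eq_of_mul_eq_mul_left Nat.card_pos (Nat.eq_of_mul_eq_mul_left Nat.card_pos h5)
        exact heq ▸ hdd
      · right
        refine CoprimeAction.inf_eq_bot_of_coprime ?_
        obtain ⟨n, hn'⟩ := hQ'p.exists_card_eq
        rw [hn']
        exact (hq.coprime_iff_not_dvd.2 hqH).pow_left n
  haveI := hQ₀
  set Q := Q₀.map M.subtype with hQ
  refine ⟨Q, hQ₀S, PReduced.le_normalizer_map_subtype M Q₀, ?_, hQH⟩
  let f := QuotientGroup.mk' Q₀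
  set S₀ := S.subgroupOf M with hS₀
  set H₀ := H.subgroupOf M with hH₀
  haveI : S₀.Normal := Subgroup.normal_subgroupOf_of_le_normalizer (le_normalizer_sigmaCore M)
  have hHS₀ : H₀ ≤ S₀ := fun w hw => hH hw
  have hQS₀ : Q₀ ≤ S₀ := fun w hw => hQ₀S ⟨w, hw, rfl⟩
  have hbar : Cfsg.IsPiHallOf π (H₀.map f) (S₀.map f) := by
    refine ⟨Subgroup.map_mono hHS₀, fun t ht hd => hHp.2.1 t ht ?_, fun t ht htπ hd => hHp.2.2 t ht htπ ?_⟩
    · rw [← Nat.card_congr (Subgroup.subgroupOfEquivOfLe (hH.trans hSM)).toEquiv]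
      exact hd.trans (Subgroup.card_map_dvd _ _)
    · rw [Subgroup.relIndex_map_map, QuotientGroup.ker_mk', sup_eq_left.2 hQS₀] at hd
      rw [← Subgroup.relIndex_subgroupOf hSM]
      exact hd.trans (Subgroup.relIndex_dvd_of_le_left _ le_sup_left)
  intro m hm
  rw [Subgroup.mem_normalizer_iff_map_conj_eq]
  set y := f ⟨m, hm⟩
  have hconj : (H₀.map f).map (MulAut.conj y).toMonoidHom = H₀.map f := by
    refine hall_unique_of_nilpotent hnil ⟨?_, fun t ht hd => hbar.2.1 t ht (by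
      rwa [Subgroup.card_map_of_injective (MulAut.conj y).injective] at hd), fun t ht htπ hd =>
        hbar.2.2 t ht htπ ?_⟩ hbar
    · haveI : (S₀.map f).Normal := ‹S₀.Normal›.map f (QuotientGroup.mk'_surjective Q₀)
      rintro _ ⟨w, hw, rfl⟩
      exact ‹(S₀.map f).Normal›.conj_mem w (hbar.1 hw) y
    · haveI : (S₀.map f).Normal := ‹S₀.Normal›.map f (QuotientGroup.mk'_surjective Q₀)
      have he : (S₀.map f).map (MulAut.conj y).toMonoidHom = S₀.map f :=
        Subgroup.Normal.conj_smul_eq_self y (S₀.map f)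
      rwa [← he, Subgroup.relIndex_map_map_of_injective _ _ (MulAut.conj y).injective] at hd
  have hW : (H₀ ⊔ Q₀).map (MulAut.conj (⟨m, hm⟩ : M)).toMonoidHom = H₀ ⊔ Q₀ := by
    have hc : (H₀ ⊔ Q₀) = (H₀.map f).comap f := by rw [Subgroup.comap_map_eq, QuotientGroup.ker_mk']
    ext w
    constructor
    · rintro ⟨v, hv, rfl⟩
      rw [hc] at hv ⊢
      rw [Subgroup.mem_comap]
      rw [← hconj]
      exact ⟨f v, hv, by simp [y]⟩
    · intro hw
      rw [hc, Subgroup.mem_comap, ← hconj] at hw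
      obtain ⟨u, hu, hue⟩ := hw
      obtain ⟨v, rfl⟩ := QuotientGroup.mk'_surjective Q₀ u
      refine ⟨(⟨m, hm⟩ : M)⁻¹ * w * ⟨m, hm⟩, ?_, by simp [mul_assoc]⟩
      rw [hc]
      show f ((⟨m, hm⟩ : M)⁻¹ * w * ⟨m, hm⟩) ∈ H₀.map f
      rw [map_mul, map_mul, map_inv, ← hue]
      simpa [y, mul_assoc] using hu
  have h := congrArg (Subgroup.map M.subtype) hW
  rw [Subgroup.map_map, Subgroup.map_sup, Subgroup.map_sup, Subgroup.map_subgroupOf_eq_of_le (hH.trans hSM)] at h
  rw [Subgroup.map_sup]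
  rw [show M.subtype.comp (MulAut.conj (⟨m, hm⟩ : M)).toMonoidHom =
    (MulAut.conj m).toMonoidHom.comp M.subtype from rfl] at h
  rwa [← Subgroup.map_map, ← Subgroup.map_map, Subgroup.map_subgroupOf_eq_of_le (hH.trans hSM)] at h

/-- B&G 15.4 (b). -/
theorem hall_sigma_fusion (hG : Cfsg.IsMinSimpleOddOrder G) (hM : IsCoatom M) (hH : H ≤ Cfsg.sigmaCore M)
    (hHall : (Nat.card H).Coprime (H.relIndex (Cfsg.sigmaCore M))) {x g : G} (hx : x ∈ H)
    (hgx : g * x * g⁻¹ ∈ H) :
    ∃ n ∈ M ⊓ Subgroup.normalizer (H : Set G), n * x * n⁻¹ = g * x * g⁻¹ := by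
  have hSM : Cfsg.sigmaCore M ≤ M := Subgroup.map_subtype_le _
  by_cases hx1 : x = 1
  · exact ⟨1, one_mem _, by rw [hx1]; group⟩
  obtain ⟨r, hr, he⟩ := exists_support_conj hG hM (hH hx) hx1 (g := g⁻¹)
    ⟨g * x * g⁻¹, hSM (hH hgx), by show g⁻¹ * (g * x * g⁻¹) * g⁻¹⁻¹ = x; group⟩
  have hrx : r * x = x * r := by
    by_cases hr1 : r = 1
    · rw [hr1, one_mul, mul_one]
    obtain ⟨L, -, -, -, -, -, hrC⟩ := supportR_spec hG hr hr1
    exact Subgroup.mem_centralizer_singleton_iff.1 hrC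
  have hm : g * r ∈ M := by
    rw [← normalizer_coatom hG hM (coatom_ne_bot hG hM)]
    refine Subgroup.mem_normalizer_iff_map_conj_eq.2 ?_
    have h2 := congrArg (fun X : Subgroup G => X.map (MulAut.conj g).toMonoidHom) he
    simp only [map_conj_map, mul_inv_cancel, map_conj_one] at h2
    exact h2.symm
  have hmx : (g * r) * x * (g * r)⁻¹ = g * x * g⁻¹ := by
    rw [show g * r * x * (g * r)⁻¹ = g * (r * x * r⁻¹) * g⁻¹ by group, hrx, mul_inv_cancel_right]
  obtain ⟨Q, hQS, hQn, hWn, hQH⟩ := hall_sigma_data hG hM hH hHall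
  rcases hQH with hQH | hQH
  · rw [sup_eq_left.2 hQH] at hWn
    exact ⟨g * r, ⟨hm, hWn hm⟩, hmx⟩
  set m := g * r with hmdef
  set W := H ⊔ Q with hWdef
  have hWS : W ≤ Cfsg.sigmaCore M := sup_le hH hQS
  haveI : Group.IsSolvable W := isSolvable_of_ne_top hG fun e => hM.1 (top_le_iff.1 (e ▸ hWS.trans hSM))
  set π : Set ℕ := {t | t.Prime ∧ t ∣ Nat.card H}
  have hHW : Cfsg.IsPiHallOf π H W := ⟨le_sup_left, fun t ht hd => ⟨ht, hd⟩, fun t ht htπ hd =>
    Nat.not_coprime_of_dvd_of_dvd ht.one_lt htπ.2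
      (hd.trans (Dvd.intro _ (Subgroup.relIndex_mul_relIndex H W _ le_sup_left hWS))) hHall⟩
  have hmW : W.map (MulAut.conj m).toMonoidHom = W := Subgroup.mem_normalizer_iff_map_conj_eq.1 (hWn hm)
  have hH' : Cfsg.IsPiHallOf π (H.map (MulAut.conj m⁻¹).toMonoidHom) W := by
    refine ⟨?_, fun t ht hd => ⟨ht, by rwa [card_map_conj] at hd⟩, fun t ht htπ hd => hHW.2.2 t ht htπ ?_⟩
    · rw [← map_conj_one W, ← inv_mul_cancel m, ← map_conj_map, hmW]
      exact Subgroup.map_mono le_sup_left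
    · have he : W.map (MulAut.conj m⁻¹).toMonoidHom = W := by
        conv_lhs => rw [← hmW, map_conj_map, inv_mul_cancel, map_conj_one]
      rwa [← he, Subgroup.relIndex_map_map_of_injective _ _ (MulAut.conj m⁻¹).injective] at hd
  obtain ⟨w, hw, hwe⟩ := Hall.piHallOf_conj hHW hH'
  obtain ⟨a, ha, b, hb, rfl⟩ := CoprimeAction.exists_mul_of_mem_sup ((hH.trans hSM).trans hQn) hw
  have hwe' : H.map (MulAut.conj (a * b)).toMonoidHom = H.map (MulAut.conj m⁻¹).toMonoidHom := hwe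
  have hn : m * (a * b) ∈ M ⊓ Subgroup.normalizer (H : Set G) := by
    refine ⟨mul_mem hm ((hWS.trans hSM) hw), Subgroup.mem_normalizer_iff_map_conj_eq.2 ?_⟩
    show H.map (MulAut.conj (m * (a * b))).toMonoidHom = H
    rw [← map_conj_map, hwe', map_conj_map, mul_inv_cancel, map_conj_one]
  have hn₀ : m * (a * b) * a⁻¹ ∈ M ⊓ Subgroup.normalizer (H : Set G) :=
    mul_mem hn (inv_mem ⟨hSM (hH ha), Subgroup.le_normalizer ha⟩)
  set q := a * b⁻¹ * a⁻¹ with hqdef
  have hq : q ∈ Q := (Subgroup.mem_normalizer_iff.1 (hQn (hSM (hH ha))) _).1 (inv_mem hb)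
  set n := m * (a * b) * a⁻¹ with hndef
  have hmn : m = n * q := by rw [hndef, hqdef]; group
  have h1 : q * x * q⁻¹ ∈ H := by
    have h2 := (Subgroup.mem_normalizer_iff.1 (inv_mem hn₀.2) (m * x * m⁻¹)).1 (hmx ▸ hgx)
    rwa [hmn, show n⁻¹ * (n * q * x * (n * q)⁻¹) * n⁻¹⁻¹ = q * x * q⁻¹ by group] at h2
  have h3 : q * x * q⁻¹ * x⁻¹ ∈ Q ⊓ H := by
    refine Subgroup.mem_inf.2 ⟨?_, mul_mem h1 (inv_mem hx)⟩
    rw [show q * x * q⁻¹ * x⁻¹ = q * (x * q⁻¹ * x⁻¹) by group]
    exact mul_mem hq ((Subgroup.mem_normalizer_iff.1 (hQn (hSM (hH hx))) _).1 (inv_mem hq))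
  rw [hQH, Subgroup.mem_bot, mul_inv_eq_one] at h3
  refine ⟨n, hn₀, ?_⟩
  rw [← hmx, hmn, show n * q * x * (n * q)⁻¹ = n * (q * x * q⁻¹) * n⁻¹ by group, h3]

/-- B&G 15.4 (a). -/
theorem hall_sigma_centralizer (hG : Cfsg.IsMinSimpleOddOrder G) (hM : IsCoatom M) (hH : H ≤ Cfsg.sigmaCore M)
    (hH1 : H ≠ ⊥) (hHall : (Nat.card H).Coprime (H.relIndex (Cfsg.sigmaCore M))) :
    ∃ X : Subgroup G, IsCyclic X ∧ (∀ p : ℕ, p.Prime → p ∣ Nat.card X → p ∈ Cfsg.tau2 M) ∧
      M ⊓ Subgroup.centralizer (H : Set G) = (Cfsg.sigmaCore M ⊓ Subgroup.centralizer (H : Set G)) ⊔ X := by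
  set S := Cfsg.sigmaCore M with hS
  have hSM : S ≤ M := Subgroup.map_subtype_le _
  set C := M ⊓ Subgroup.centralizer (H : Set G) with hC
  haveI : Group.IsSolvable C := isSolvable_of_ne_top hG fun e => hM.1 (top_le_iff.1 (e ▸ inf_le_left))
  obtain ⟨X, -, hX, -⟩ := exists_hall_over (π := {t | t.Prime ∧ t ∉ Cfsg.sigma M}) (bot_le : (⊥ : Subgroup G) ≤ C)
    fun t ht hd => absurd ((Subgroup.card_bot (G := G)) ▸ hd) ht.not_dvd_one
  have hXM : X ≤ M := hX.1.trans inf_le_left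
  have hXC : X ≤ Subgroup.centralizer (H : Set G) := hX.1.trans inf_le_right
  have hXσ : ∀ t : ℕ, t.Prime → t ∣ Nat.card X → t ∉ Cfsg.sigma M := fun t ht hd => (hX.2.1 t ht hd).2
  obtain ⟨K, U, hKU⟩ := exists_decomp_any hG hM
  obtain ⟨h₀, hh₀, hh₁⟩ := (Subgroup.bot_or_exists_ne_one _).resolve_left hH1
  -- the primes of `X`
  have hτ : ∀ t : ℕ, t.Prime → t ∣ Nat.card X → t ∈ Cfsg.tau2 M := by
    intro t ht hd
    haveI := Fact.mk ht
    have hts := hXσ t ht hd
    by_contra hn2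
    have hr : Cfsg.PRankLE t 1 ↥M := by
      by_contra e
      exact hn2 ⟨ht, hts, prankLE_two_of_not_sigma hG hM hts, e⟩
    obtain ⟨k, hk, hko⟩ := exists_elem_prime (p := t) (H := X) hd
    have hk1 : k ≠ 1 := fun e => ht.one_lt.ne (by rw [← hko, e, orderOf_one])
    have hHk : H ≤ S ⊓ Subgroup.centralizer ({k} : Set G) := le_inf hH fun w hw =>
      Subgroup.mem_centralizer_singleton_iff.2 (Subgroup.mem_centralizer_iff.1 (hXC hk) w hw)
    by_cases htk : t ∈ Cfsg.kappa M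
    swap
    · rw [free_of_not_kappa hG hts htk hr (hXM hk) hko] at hHk
      exact hH1 (le_bot_iff.1 hHk)
    have hK1 : K ≠ ⊥ := fun e => by
      rw [(K_eq_bot_iff_kappa hKU).1 e] at htk
      exact htk
    haveI : Group.IsSolvable M := isSolvable_of_ne_top hG hM.1
    obtain ⟨m, hm, hmK⟩ := exists_conj_le_hall hKU.hall (Subgroup.zpowers_le.2 (hXM hk)) fun s hs hsd => by
      rw [Nat.card_zpowers, hko] at hsd
      rwa [(Nat.prime_dvd_prime_iff_eq hs ht).1 hsd]
    set k' := m * k * m⁻¹ with hk'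
    have hk'K : k' ∈ K := hmK ⟨k, Subgroup.mem_zpowers k, rfl⟩
    have hk'o : orderOf k' = t := by rw [hk', orderOf_conj, hko]
    have heq := ((decomp_kappa_structure hG hM hKU hK1).2 (Subgroup.zpowers k') (Subgroup.zpowers_le.2 hk'K)
      (by rw [Nat.card_zpowers, hk'o]; exact ht)).1
    set Kst := Cfsg.sigmaCore M ⊓ Subgroup.centralizer (K : Set G) with hKst
    have hHK : H.map (MulAut.conj m).toMonoidHom ≤ Kst := by
      rw [← heq, centralizer_zpowers]
      rintro _ ⟨w, hw, rfl⟩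
      refine Subgroup.mem_inf.2 ⟨(Subgroup.mem_normalizer_iff.1 (le_normalizer_sigmaCore M hm) w).1 (hH hw),
        Subgroup.mem_centralizer_singleton_iff.2 ?_⟩
      show m * w * m⁻¹ * k' = k' * (m * w * m⁻¹)
      rw [hk', show m * w * m⁻¹ * (m * k * m⁻¹) = m * (w * k) * m⁻¹ by group,
        Subgroup.mem_centralizer_iff.1 (hXC hk) w hw]
      group
    obtain ⟨p, hp, hpd⟩ := Nat.exists_prime_and_dvd fun e => hH1 (Subgroup.card_eq_one.1 e)
    haveI := Fact.mk hp
    set H' := H.map (MulAut.conj m).toMonoidHom with hH'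
    obtain ⟨P⟩ : Nonempty (Sylow p ↥H') := inferInstance
    set P' := (P : Subgroup ↥H').map H'.subtype with hP'
    have hP'S : P' ≤ S := ((Subgroup.map_subtype_le _).trans hHK).trans inf_le_left
    obtain ⟨T, hT⟩ := exists_max_ge (P.isPGroup'.map H'.subtype) hP'S
    have hTP : (T : Subgroup ↥S).map S.subtype ≤ P' := by
      refine le_of_prime_relIndex fun s hs hsd hi => ?_
      obtain ⟨n, hn⟩ := (T.isPGroup'.map S.subtype).exists_card_eq
      rw [hn] at hsd
      obtain rfl := (Nat.prime_dvd_prime_iff_eq hs hp).1 (hs.dvd_of_dvd_pow hsd)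
      have h1 : s ∣ P'.relIndex S := hi.trans (Dvd.intro _
        (Subgroup.relIndex_mul_relIndex P' _ S hT (Subgroup.map_subtype_le _)))
      rw [← Subgroup.relIndex_mul_relIndex P' H' S (Subgroup.map_subtype_le _) (hHK.trans inf_le_left)] at h1
      rcases hs.dvd_mul.1 h1 with h | h
      · rw [hP', Subgroup.relIndex, Subgroup.subgroupOf,
          Subgroup.comap_map_eq_self_of_injective H'.subtype_injective] at h
        exact P.not_dvd_index h
      · refine Nat.not_coprime_of_dvd_of_dvd hs.one_lt hpd ?_ hHall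
        have he : S.map (MulAut.conj m).toMonoidHom = S :=
          Subgroup.mem_normalizer_iff_map_conj_eq.1 (le_normalizer_sigmaCore M hm)
        rwa [← he, hH', Subgroup.relIndex_map_map_of_injective _ _ (MulAut.conj m).injective] at h
    exact ((Cfsg.Agent.S1431.result hG M hM K hKU.hall hK1).2.2.1 p hp
      ((by rw [← card_map_conj H m] at hpd; exact hpd : p ∣ Nat.card H').trans (Subgroup.card_dvd_of_le hHK)) T).2.2
      (hTP.trans ((Subgroup.map_subtype_le _).trans hHK))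
  refine ⟨X, ?_, hτ, le_antisymm ?_ (sup_le (inf_le_inf_right _ hSM) hX.1)⟩
  · -- `X` is abelian with cyclic Sylow subgroups
    haveI : Group.IsSolvable M := isSolvable_of_ne_top hG hM.1
    obtain ⟨-, hUh⟩ := decomp_complement_card hG hM hKU
    obtain ⟨m, hm, hmU⟩ := exists_conj_le_hall hUh hXM fun t ht hd => by
      haveI := Fact.mk ht
      exact ⟨ht, fun hk => (hτ t ht hd).2.2.2 (kappa_basic hG hM hk).2.1, hXσ t ht hd⟩
    obtain ⟨A₀, -, -, hA₀, hfix⟩ := exists_fixed_cover hG hM hKU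
    have hle : X.map (MulAut.conj m).toMonoidHom ≤ A₀ := fun w hw => by
      refine hfix (m * h₀ * m⁻¹) ((Subgroup.mem_normalizer_iff.1 (le_normalizer_sigmaCore M hm) h₀).1 (hH hh₀))
        (fun e => hh₁ (conj_eq_one_iff.1 e)) (Subgroup.mem_inf.2 ⟨hmU hw, Subgroup.mem_centralizer_singleton_iff.2 ?_⟩)
      obtain ⟨v, hv, rfl⟩ := hw
      show m * v * m⁻¹ * (m * h₀ * m⁻¹) = m * h₀ * m⁻¹ * (m * v * m⁻¹)
      rw [show m * v * m⁻¹ * (m * h₀ * m⁻¹) = m * (v * h₀) * m⁻¹ by group,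
        ← Subgroup.mem_centralizer_iff.1 (hXC hv) h₀ hh₀]
      group
    haveI : Group.IsNilpotent ↥X := by
      letI : CommGroup ↥X := { (inferInstance : Group ↥X) with
        mul_comm := fun a b => Subtype.ext <| by
          have h := congrArg Subtype.val (mul_comm' (⟨_, hle ⟨a, a.2, rfl⟩⟩ : A₀) ⟨_, hle ⟨b, b.2, rfl⟩⟩)
          exact (MulAut.conj m).injective (by rw [Subgroup.coe_mul, Subgroup.coe_mul, map_mul, map_mul]; exact h) }
      infer_instance
    haveI : IsZGroup ↥X := by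
      refine ⟨fun t ht P => ?_⟩
      haveI := Fact.mk ht
      by_cases hP : (P : Subgroup ↥X) = ⊥
      · rw [hP]
        exact isCyclic_of_subsingleton
      have hd : t ∣ Nat.card X :=
        (dvd_card_of_ne_bot (G := ↥X) P.isPGroup' hP).trans (Subgroup.card_subgroup_dvd_card _)
      have hP'p := P.isPGroup'.map X.subtype
      have : IsCyclic ↥((P : Subgroup ↥X).map X.subtype) := by
        by_contra hc
        obtain ⟨A, hAP, hA, hAc⟩ := exists_elem_sq (ne_two hG (hd.trans (Subgroup.card_subgroup_dvd_card X))) hP'p hc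
        have hAX : A ≤ X := hAP.trans (Subgroup.map_subtype_le _)
        obtain ⟨-, -, -, hfixA, -, -⟩ :=
          Cfsg.Agent.S1417.result hG M hM t (hτ t ht hd) A ⟨hAX.trans hXM, hA, hAc⟩
        exact hh₁ (Subgroup.mem_bot.1 (hfixA ▸ Subgroup.mem_inf.2 ⟨hH hh₀, Subgroup.mem_centralizer_iff.2 fun a ha =>
          (Subgroup.mem_centralizer_iff.1 (hXC (hAX ha)) h₀ hh₀).symm⟩))
      exact isCyclic_of_injective ((P : Subgroup ↥X).equivMapOfInjective X.subtype X.subtype_injective).toMonoidHom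
        ((P : Subgroup ↥X).equivMapOfInjective X.subtype X.subtype_injective).injective
    infer_instance
  · set J := (S ⊓ Subgroup.centralizer (H : Set G)) ⊔ X with hJ
    refine le_of_prime_relIndex fun t ht _ hd => ?_
    by_cases hts : t ∈ Cfsg.sigma M
    · refine (sigmaCore_hallOf hG hM).2.2 t ht hts ?_
      have h1 : t ∣ (S ⊓ Subgroup.centralizer (H : Set G)).relIndex C :=
        hd.trans (Subgroup.relIndex_dvd_of_le_left C le_sup_left)
      have h2 : (S ⊓ Subgroup.centralizer (H : Set G)).relIndex C = S.relIndex C := by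
        have he : S ⊓ C = S ⊓ Subgroup.centralizer (H : Set G) := by
          rw [hC, ← inf_assoc, inf_eq_left.2 hSM]
        rw [← he, Subgroup.inf_relIndex_right]
      exact (h2 ▸ h1).trans (relIndex_dvd_of_normal (le_normalizer_sigmaCore M) inf_le_left)
    · exact hX.2.2 t ht ⟨ht, hts⟩ (hd.trans (Subgroup.relIndex_dvd_of_le_left C le_sup_right))

end CfsgLib.BGSets
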