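import Cfsg.Agent.BGSets.Neighbour

/-!
B&G 14.5: the number of elements of `M̃`.
-/

set_option autoImplicit false
set_option linter.unusedSectionVars false
set_option linter.style.haveILetI false

namespace CfsgLib.BGSets

open CfsgLib.BenderUnique CfsgLib.Uniq CfsgLib.SigmaGroups

universe u

variable {G : Type u} [Group G] [Finite G] {M : Subgroup G} {x r : G}

theorem supportR_commute (hG : Cfsg.IsMinSimpleOddOrder G) (hr : r ∈ Cfsg.supportR M x) : r * x = x * r := by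
  by_cases hr1 : r = 1
  · rw [hr1, one_mul, mul_one]
  obtain ⟨L, -, -, -, -, -, hrC⟩ := supportR_spec hG hr hr1
  exact Subgroup.mem_centralizer_singleton_iff.1 hrC

theorem supportR_inf_eq_bot (hG : Cfsg.IsMinSimpleOddOrder G) (hM : IsCoatom M) (hx : x ∈ Cfsg.sigmaCore M)
    (hx1 : x ≠ 1) (hr : r ∈ Cfsg.supportR M x) (hrM : r ∈ M) : r = 1 := by
  by_contra hr1
  obtain ⟨L, -, hxM, -, -, -, -⟩ := supportR_spec hG hr hr1
  obtain ⟨N, h⟩ := exists_isNeighbour hG hM hx hx1 hxM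
  rw [h.support] at hr
  exact hr1 (Subgroup.mem_bot.1 (h.disjoint ▸ Subgroup.mem_inf.2 ⟨hr.1, hrM⟩))

/-- `R(x)` only depends on `x` and the conjugacy class of `M`. -/
theorem supportR_eq_of_conj (hG : Cfsg.IsMinSimpleOddOrder G) (hM : IsCoatom M) (g : G) (hx1 : x ≠ 1)
    (hx : x ∈ Cfsg.sigmaCore M) (hxg : x ∈ Cfsg.sigmaCore (M.map (MulAut.conj g).toMonoidHom)) :
    Cfsg.supportR (M.map (MulAut.conj g).toMonoidHom) x = Cfsg.supportR M x := by
  have hSM : ∀ L : Subgroup G, Cfsg.sigmaCore L ≤ L := fun _ => Subgroup.map_subtype_le _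
  set M₂ := M.map (MulAut.conj g).toMonoidHom with hM₂
  have hM₂c : IsCoatom M₂ := isCoatom_map _ hM
  have key : ∀ {A B : Subgroup G}, IsCoatom A → x ∈ Cfsg.sigmaCore A → x ∈ B →
      (∃ h : G, B = A.map (MulAut.conj h).toMonoidHom) → Subgroup.centralizer ({x} : Set G) ≤ A → B = A := by
    rintro A B hA hxA hxB ⟨h, rfl⟩ hle
    obtain ⟨s, hs, he⟩ := exists_support_conj hG hA hxA hx1 hxB
    rw [Cfsg.supportR, dif_neg fun h => h.1 hle, Subgroup.mem_bot] at hs
    rw [he, hs, map_conj_one]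
  by_cases h1 : Subgroup.centralizer ({x} : Set G) ≤ M
  · rw [key hM hx (hSM _ hxg) ⟨g, rfl⟩ h1]
  have h2 : ¬ Subgroup.centralizer ({x} : Set G) ≤ M₂ := fun h => h1 <| by
    rw [key hM₂c hxg (hSM _ hx) ⟨g⁻¹, by simp only [hM₂, map_conj_map, inv_mul_cancel, map_conj_one]⟩ h]
    exact h
  obtain ⟨N, hN⟩ := exists_isNeighbour hG hM hx hx1 h1
  obtain ⟨N', hN'⟩ := exists_isNeighbour hG hM₂c hxg hx1 h2
  rw [hN.support, hN'.support, hN.eq hN'.coatom hN'.cent_le]

theorem tildeOf_eq_supportUnion (hG : Cfsg.IsMinSimpleOddOrder G) (hM : IsCoatom M) :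
    Cfsg.tildeOf M ((Cfsg.sigmaCore M : Set G) \ {1}) = supportUnion M := by
  ext a
  constructor
  · rintro ⟨b, ⟨hb, hb1⟩, r, hr, y, rfl⟩
    refine ⟨y, y * b * y⁻¹, sigmaCore_conj_ge hG hM y ⟨b, hb, rfl⟩, fun h => hb1 (conj_eq_one_iff.1 h),
      y * r * y⁻¹, supportR_conj hG hM hb hb1 hr y, ?_⟩
    group
  · rintro ⟨g, b, hb, hb1, r, hr, rfl⟩
    have h1 := supportR_conj hG (isCoatom_map _ hM) hb hb1 hr g⁻¹
    have h2 := sigmaCore_conj_ge hG (isCoatom_map _ hM) g⁻¹ ⟨b, hb, rfl⟩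
    simp only [map_conj_map, inv_mul_cancel, map_conj_one, MulEquiv.coe_toMonoidHom, MulAut.conj_apply] at h1 h2
    refine ⟨_, ⟨h2, fun h => hb1 (conj_eq_one_iff.1 h)⟩, _, h1, g, ?_⟩
    group

theorem ncard_supportUnion_le (hG : Cfsg.IsMinSimpleOddOrder G) (hM : IsCoatom M) :
    (supportUnion M).ncard ≤ M.index * (Nat.card ↥(Cfsg.sigmaCore M) - 1) := by
  classical
  let c : G → Subgroup G := fun g => M.map (MulAut.conj g).toMonoidHom
  let J := {P : (G ⧸ M) × G // P.2 ∈ Cfsg.sigmaCore (c P.1.out) ∧ P.2 ≠ 1}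
  have hc : ∀ g : G, IsCoatom (c g) := fun g => isCoatom_map _ hM
  have hbase : ∀ x : G, ∃ g₀ : G, (∃ g, x ∈ Cfsg.sigmaCore (c g)) → x ∈ Cfsg.sigmaCore (c g₀) := fun x => by
    by_cases h : ∃ g, x ∈ Cfsg.sigmaCore (c g)
    · exact ⟨h.choose, fun _ => h.choose_spec⟩
    · exact ⟨1, fun h' => absurd h' h⟩
  choose b hb using hbase
  have hsel : ∀ a : ↥(supportUnion M), ∃ x r : G, x ∈ Cfsg.sigmaCore (c (b x)) ∧ x ≠ 1 ∧
      r ∈ Cfsg.supportR (c (b x)) x ∧ (a : G) = x * r := by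
    rintro ⟨a, g, x, hx, hx1, r, hr, rfl⟩
    have hbx := hb x ⟨g, hx⟩
    refine ⟨x, r, hbx, hx1, ?_, rfl⟩
    have he : c g = (c (b x)).map (MulAut.conj (g * (b x)⁻¹)).toMonoidHom := by
      simp only [c, map_conj_map, inv_mul_cancel_right]
    have hx' : x ∈ Cfsg.sigmaCore (c g) := hx
    rw [he] at hx'
    rw [← supportR_eq_of_conj hG (hc _) _ hx1 hbx hx', ← he]
    exact hr
  choose x r hx hx1 hr ha using hsel
  have hout : ∀ g : G, c (QuotientGroup.mk g : G ⧸ M).out = c g := fun g => by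
    obtain ⟨m, hm⟩ := QuotientGroup.mk_out_eq_mul M g
    simp only [c, hm]
    rw [← map_conj_map (h := g) (g := (m : G))]
    exact congrArg _ (Subgroup.mem_normalizer_iff_map_conj_eq.1 (Subgroup.le_normalizer m.2))
  let F : ↥(supportUnion M) → J := fun a => ⟨(QuotientGroup.mk (r a * b (x a)), x a), by
    refine ⟨?_, hx1 a⟩
    rw [hout]
    have h1 : r a * x a * (r a)⁻¹ ∈ Cfsg.sigmaCore ((c (b (x a))).map (MulAut.conj (r a)).toMonoidHom) :=
      sigmaCore_conj_ge hG (hc _) (r a) ⟨_, hx a, rfl⟩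
    rw [supportR_commute hG (hr a), mul_inv_cancel_right] at h1
    simpa only [c, map_conj_map] using h1⟩
  have hF : Function.Injective F := fun a a' h => by
    have h' := congrArg Subtype.val h
    have hxx : x a = x a' := congrArg Prod.snd h'
    have hq : (QuotientGroup.mk (r a * b (x a)) : G ⧸ M) = QuotientGroup.mk (r a' * b (x a')) := congrArg Prod.fst h'
    rw [← hxx, QuotientGroup.eq] at hq
    have hr' := hr a'
    rw [← hxx] at hr'
    have h1 : (r a)⁻¹ * r a' ∈ c (b (x a)) := ⟨_, hq, by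
      show b (x a) * ((r a * b (x a))⁻¹ * (r a' * b (x a))) * (b (x a))⁻¹ = _
      group⟩
    have h2 := supportR_inf_eq_bot hG (hc _) (hx a) (hx1 a) (mul_mem (inv_mem (hr a)) hr') h1
    exact Subtype.ext (by rw [ha a, ha a', ← hxx, inv_mul_eq_one.1 h2])
  have hle : (supportUnion M).ncard ≤ Nat.card J := by
    rw [← Nat.card_coe_set_eq]
    exact Nat.card_le_card_of_injective F hF
  refine hle.trans (le_of_eq ?_)
  let e : J ≃ Σ q : G ⧸ M, {y : G // y ∈ Cfsg.sigmaCore (c q.out) ∧ y ≠ 1} :=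
    { toFun := fun P => ⟨P.1.1, P.1.2, P.2⟩
      invFun := fun S => ⟨(S.1, S.2.1), S.2.2⟩
      left_inv := fun _ => rfl
      right_inv := fun _ => rfl }
  haveI := Fintype.ofFinite (G ⧸ M)
  rw [Nat.card_congr e, Nat.card_sigma]
  have heach : ∀ q : G ⧸ M, Nat.card {y : G // y ∈ Cfsg.sigmaCore (c q.out) ∧ y ≠ 1} =
      Nat.card ↥(Cfsg.sigmaCore M) - 1 := fun q => by
    have h1 : Nat.card {y : G // y ∈ Cfsg.sigmaCore (c q.out) ∧ y ≠ 1} =
        ((Cfsg.sigmaCore (c q.out) : Set G) \ {1}).ncard := by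
      rw [← Nat.card_coe_set_eq]; rfl
    rw [h1, Set.ncard_sdiff_singleton_of_mem (one_mem (Cfsg.sigmaCore (c q.out)))]
    show ((Cfsg.sigmaCore (c q.out) : Set G)).ncard - 1 = _
    rw [← Nat.card_coe_set_eq]
    show Nat.card ↥(Cfsg.sigmaCore (c q.out)) - 1 = _
    rw [sigmaCore_conj hG hM, card_map_conj]
  rw [Finset.sum_congr rfl fun q _ => heach q, Finset.sum_const, Finset.card_univ, ← Nat.card_eq_fintype_card,
    smul_eq_mul, Subgroup.index]

theorem ncard_tilde (hG : Cfsg.IsMinSimpleOddOrder G) (hM : IsCoatom M) :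
    (Cfsg.tildeOf M ((Cfsg.sigmaCore M : Set G) \ {1})).ncard =
      (Nat.card ↥(Cfsg.sigmaCore M) - 1) * M.index := by
  rw [tildeOf_eq_supportUnion hG hM, mul_comm]
  refine le_antisymm (ncard_supportUnion_le hG hM) ?_
  have h := ncard_supportUnion hG hM
  rw [← Subgroup.card_mul_index M, mul_assoc] at h
  exact Nat.le_of_mul_le_mul_left h Nat.card_pos

end CfsgLib.BGSets
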