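import Cfsg.Agent.BGSets.NeighbourPrimes
import Cfsg.Agent.BGFifteen.FrobeniusPGroup
import Cfsg.Agent.BGFifteen.Basic
import Cfsg.Agent.S1372
import Cfsg.Agent.S1414
import Cfsg.Agent.S1419
import Cfsg.Agent.S1426

/-!
B&G 14.6, last part: the neighbour is of type `P₂`.
-/

set_option autoImplicit false
set_option linter.unusedSectionVars false
set_option linter.style.haveILetI false

namespace CfsgLib.BGSets

open CfsgLib.BenderUnique CfsgLib.Uniq CfsgLib.SigmaGroups CfsgLib.BGFifteen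
open scoped commutatorElement

universe u

variable {G : Type u} [Group G] [Finite G] {M N Ms K U : Subgroup G} {x : G}

theorem mem_of_normal_hall {E V : Subgroup G} (hEV : E ≤ Subgroup.normalizer (V : Set G)) {w : G} (hw : w ∈ E)
    (h : ∀ t : ℕ, t.Prime → t ∣ orderOf w → ¬ t ∣ V.relIndex E) : w ∈ V := by
  haveI : (V.subgroupOf E).Normal := Subgroup.normal_subgroupOf_of_le_normalizer hEV
  have h1 : (QuotientGroup.mk ⟨w, hw⟩ : E ⧸ V.subgroupOf E) = 1 := by
    rw [← orderOf_eq_one_iff]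
    by_contra hne
    obtain ⟨s, hs, hsd⟩ := Nat.exists_prime_and_dvd hne
    refine h s hs (hsd.trans ((orderOf_map_dvd (QuotientGroup.mk' (V.subgroupOf E)) _).trans
      (by rw [Subgroup.orderOf_mk]))) (hsd.trans ?_)
    exact orderOf_dvd_natCard _
  exact Subgroup.mem_subgroupOf.1 ((QuotientGroup.eq_one_iff _).1 h1)

/-- If one Sylow subgroup is commutative, so is every `p`-subgroup. -/
theorem pgroup_comm {p : ℕ} [Fact p.Prime] (T : Sylow p G)
    (hT : ∀ a ∈ (T : Subgroup G), ∀ b ∈ (T : Subgroup G), a * b = b * a) {Y : Subgroup G} (hY : IsPGroup p Y) :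
    ∀ a ∈ Y, ∀ b ∈ Y, a * b = b * a := by
  intro a ha b hb
  obtain ⟨T', hT'⟩ := hY.exists_le_sylow
  obtain ⟨g, hg⟩ := MulAction.exists_smul_eq G T' T
  have hm : ∀ w ∈ Y, g * w * g⁻¹ ∈ (T : Subgroup G) := fun w hw => by
    rw [← hg]
    exact ⟨w, hT' hw, rfl⟩
  have h := hT _ (hm a ha) _ (hm b hb)
  have h2 := congrArg (fun w => g⁻¹ * w * g) h
  simpa [mul_assoc] using h2

/-- A commutative Sylow subgroup outside `β` gives a normal complement containing the derived subgroup. -/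
theorem not_mem_derived (hG : Cfsg.IsMinSimpleOddOrder G) (hMs : IsCoatom Ms) {p : ℕ} [Fact p.Prime]
    (hp : p ∈ Cfsg.sigma Ms) (hpb : p ∉ Cfsg.beta Ms)
    (hcomm : ∀ Y : Subgroup G, Y ≤ Cfsg.sigmaCore Ms → IsPGroup p Y → ∀ a ∈ Y, ∀ b ∈ Y, a * b = b * a)
    {k : G} (hk : orderOf k = p) : k ∉ ⁅Cfsg.sigmaCore Ms, Cfsg.sigmaCore Ms⁆ := by
  intro hkD
  set S := Cfsg.sigmaCore Ms with hS
  obtain ⟨-, ⟨P₀, N₀, hN₀, hc⟩, -⟩ := (Cfsg.Agent.S1414.result hG Ms hMs).2.2.2.2 p Fact.out hp.2.1 hpb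
  haveI := hN₀
  have hle : ⁅S, S⁆ ≤ N₀.map S.subtype := by
    rw [Subgroup.commutator_le]
    intro a ha b hb
    refine ⟨⁅(⟨a, ha⟩ : S), ⟨b, hb⟩⁆, ?_, rfl⟩
    have hrep : ∀ w : S, ∃ v ∈ (P₀ : Subgroup S), QuotientGroup.mk' N₀ w = QuotientGroup.mk' N₀ v := fun w => by
      obtain ⟨⟨n, v⟩, hnv, -⟩ := hc.existsUnique w
      refine ⟨v, v.2, ?_⟩
      rw [show w = (n : S) * v from hnv.symm, map_mul,
        show QuotientGroup.mk' N₀ (n : S) = 1 from (QuotientGroup.eq_one_iff _).2 n.2, one_mul]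
    obtain ⟨u, hu, hua⟩ := hrep ⟨a, ha⟩
    obtain ⟨v, hv, hvb⟩ := hrep ⟨b, hb⟩
    have huv : u * v = v * u := Subtype.ext (hcomm ((P₀ : Subgroup S).map S.subtype) (Subgroup.map_subtype_le _)
      (P₀.isPGroup'.map _) _ ⟨u, hu, rfl⟩ _ ⟨v, hv, rfl⟩)
    show ⁅(⟨a, ha⟩ : S), ⟨b, hb⟩⁆ ∈ N₀
    rw [← QuotientGroup.eq_one_iff, ← QuotientGroup.mk'_apply, map_commutatorElement, hua, hvb,
      ← map_commutatorElement, commutatorElement_eq_one_iff_mul_comm.2 huv, map_one]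
  obtain ⟨k', hk', rfl⟩ := hle hkD
  apply P₀.not_dvd_index
  rw [hc.index_eq_card]
  have h1 : orderOf k' = p := by rwa [Subgroup.subtype_apply, Subgroup.orderOf_coe] at hk
  exact h1 ▸ Subgroup.orderOf_dvd_natCard N₀ hk'

/-- A Frobenius group `A R` with `C_Q(R) ≤ C(A)` centralizes the `p`-group `Q`. -/
theorem frobenius_centralizes {p : ℕ} [Fact p.Prime] {A R Q : Subgroup G} (hQ : IsPGroup p Q) (hR1 : R ≠ ⊥)
    (hAR : A ⊓ R = ⊥) (hRA : R ≤ Subgroup.normalizer (A : Set G))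
    (hfrob : ∀ r ∈ R, r ≠ 1 → A ⊓ Subgroup.centralizer ({r} : Set G) = ⊥)
    (hAQ : A ≤ Subgroup.normalizer (Q : Set G)) (hRQ : R ≤ Subgroup.normalizer (Q : Set G))
    (hcop : (Nat.card ↥(A ⊔ R)).Coprime (Nat.card Q))
    (hpr : ∀ r ∈ R, r ≠ 1 → Q ⊓ Subgroup.centralizer ({r} : Set G) = Q ⊓ Subgroup.centralizer (R : Set G))
    (hcyc : IsCyclic ↥(Q ⊓ Subgroup.centralizer (R : Set G)))
    (hfix : Q ⊓ Subgroup.centralizer (R : Set G) ≤ Subgroup.centralizer (A : Set G)) :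
    A ≤ Subgroup.centralizer (Q : Set G) := by
  by_contra hnc
  set W := ⁅Q, A⁆ with hW
  have hcopA : (Nat.card A).Coprime (Nat.card Q) := hcop.coprime_dvd_left (Subgroup.card_dvd_of_le le_sup_left)
  have hQs : Group.IsSolvable Q := by
    haveI := hQ.isNilpotent
    infer_instance
  have hWQ : W ≤ Q := CoprimeAction.commutator_le_of_normalizer hAQ
  have hWp : IsPGroup p W := hQ.to_le hWQ
  have hAW : A ≤ Subgroup.normalizer (W : Set G) := CoprimeAction.le_normalizer_commutator hAQ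
  have hRW : R ≤ Subgroup.normalizer (W : Set G) := fun r hr => by
    rw [hW, Subgroup.mem_normalizer_iff_map_conj_eq, Subgroup.map_commutator,
      Subgroup.mem_normalizer_iff_map_conj_eq.1 (hRQ hr), Subgroup.mem_normalizer_iff_map_conj_eq.1 (hRA hr)]
  have hncW : ¬ A ≤ Subgroup.centralizer (W : Set G) := fun h => hnc (by
    have h1 : ⁅W, A⁆ = ⊥ := Subgroup.commutator_eq_bot_iff_le_centralizer.2 (Subgroup.le_centralizer_iff.1 h)
    rw [hW, CoprimeAction.commutator_commutator_eq hAQ hcopA (Or.inr hQs),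
      Subgroup.commutator_eq_bot_iff_le_centralizer] at h1
    exact Subgroup.le_centralizer_iff.1 h1)
  haveI := hcyc
  obtain ⟨-, -, hne⟩ := frobenius_on_pgroup hWp hR1 hAR hRA hfrob hAW hRW
    (hcop.coprime_dvd_right (Subgroup.card_dvd_of_le hWQ)) hncW
    (fun r hr hr1 => le_antisymm (le_inf inf_le_left ((inf_le_inf_right _ hWQ).trans
      ((hpr r hr hr1).le.trans inf_le_right)))
      (inf_le_inf_left _ (Subgroup.centralizer_le (Set.singleton_subset_iff.2 hr))))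
    (Subgroup.isCyclic_of_le (inf_le_inf_right _ hWQ))
  refine hne fun w hw => ?_
  -- the norm argument in `W / Φ(W)`
  set Ψ := (frattini W).map W.subtype with hΨ
  set Nz := Subgroup.normalizer (W : Set G) with hNz
  have hWN : W ≤ Nz := Subgroup.le_normalizer
  have hΨW : Ψ ≤ W := Subgroup.map_subtype_le _
  haveI : (Ψ.subgroupOf Nz).Normal := by
    refine (Subgroup.normal_subgroupOf_iff_le_normalizer (hΨW.trans hWN)).2 ?_
    rw [Subgroup.le_normalizer_iff]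
    rintro g hg _ ⟨v, hv, rfl⟩
    exact ⟨W.normalizerMonoidHom ⟨g, hg⟩ v,
      (Subgroup.characteristic_iff_map_le.1 (inferInstance : (frattini W).Characteristic) _) ⟨v, hv, rfl⟩, rfl⟩
  let π := QuotientGroup.mk' (Ψ.subgroupOf Nz)
  have hker : ∀ {g : Nz}, π g = 1 ↔ (g : G) ∈ Ψ := fun {g} => by
    rw [← MonoidHom.mem_ker, QuotientGroup.ker_mk', Subgroup.mem_subgroupOf]
  set V := (W.subgroupOf Nz).map π with hV
  set A' := (A.subgroupOf Nz).map π with hA'
  haveI : IsMulCommutative V := by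
    refine ⟨⟨?_⟩⟩
    rintro ⟨_, a, ha, rfl⟩ ⟨_, b, hb, rfl⟩
    refine Subtype.ext ?_
    show π a * π b = π b * π a
    rw [← commutatorElement_eq_one_iff_mul_comm, ← map_commutatorElement, hker]
    exact ⟨⁅(⟨a, ha⟩ : W), ⟨b, hb⟩⁆, CoprimeAction.commutator_le_frattini' hWp
      (Subgroup.commutator_mem_commutator (Subgroup.mem_top _) (Subgroup.mem_top _)), rfl⟩
  have hAV : A' ≤ Subgroup.normalizer (V : Set (Nz ⧸ Ψ.subgroupOf Nz)) := by
    refine (Subgroup.map_mono ?_).trans (Subgroup.le_normalizer_map π)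
    rw [Subgroup.le_normalizer_iff]
    exact fun a ha b hb => (Subgroup.le_normalizer_iff.1 hAW) _ ha _ hb
  have hcopV : (Nat.card A').Coprime (Nat.card V) := by
    refine (hcopA.coprime_dvd_left ?_).coprime_dvd_right ?_
    · rw [← Nat.card_congr (Subgroup.subgroupOfEquivOfLe hAW).toEquiv]
      exact Subgroup.card_map_dvd _ _
    · refine dvd_trans ?_ (Subgroup.card_dvd_of_le hWQ)
      rw [← Nat.card_congr (Subgroup.subgroupOfEquivOfLe hWN).toEquiv]
      exact Subgroup.card_map_dvd _ _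
  have hVA : ⁅V, A'⁆ = V := by
    rw [hV, hA', ← Subgroup.map_commutator]
    congr 1
    apply Subgroup.map_injective Nz.subtype_injective
    rw [Subgroup.map_commutator, Subgroup.map_subgroupOf_eq_of_le hWN, Subgroup.map_subgroupOf_eq_of_le hAW,
      hW, CoprimeAction.commutator_commutator_eq hAQ hcopA (Or.inr hQs)]
  obtain ⟨hwW, hwR⟩ := Subgroup.mem_inf.1 hw
  have hwA : w ∈ Subgroup.centralizer (A : Set G) := hfix ⟨hWQ hwW, hwR⟩
  have h1 : π ⟨w, hWN hwW⟩ ∈ V ⊓ Subgroup.centralizer (A' : Set (Nz ⧸ Ψ.subgroupOf Nz)) ⊓ ⁅V, A'⁆ := by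
    refine Subgroup.mem_inf.2 ⟨Subgroup.mem_inf.2 ⟨⟨_, hwW, rfl⟩, Subgroup.mem_centralizer_iff.2 ?_⟩, ?_⟩
    · rintro _ ⟨a, ha, rfl⟩
      rw [← map_mul, ← map_mul]
      exact congrArg π (Subtype.ext (Subgroup.mem_centralizer_iff.1 hwA a ha))
    · rw [hVA]
      exact ⟨_, hwW, rfl⟩
  rw [CoprimeAction.centralizer_inf_commutator_eq_bot hAV hcopV, Subgroup.mem_bot] at h1
  exact hker.1 h1

/-- The configuration attached to a neighbour of type `P₂`. -/
structure TypeTwoData (M N Ms K U : Subgroup G) (x : G) : Prop where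
  decomp : Cfsg.IsSigmaDecomposition N K U
  ne_bot : K ≠ ⊥
  ne_bot' : U ≠ ⊥
  coatom : IsCoatom Ms
  pair : KappaPair N Ms K
  mem : x ∈ U
  kappa_empty : Cfsg.kappa M = ∅
  le_sigma : U ≤ Cfsg.sigmaCore M
  inf_eq : M ⊓ N = U ⊔ K
  le_fitting : K ≤ Cfsg.fittingOf (M ⊓ Ms)
  compl : Cfsg.IsComplIn (M ⊓ Ms) (Cfsg.sigmaCore M) M

theorem exists_typeTwoData (hG : Cfsg.IsMinSimpleOddOrder G) (hM : IsCoatom M)
    (hx : x ∈ Cfsg.sigmaCore M) (hx1 : x ≠ 1) (h : IsNeighbour M N x) (hkN : (Cfsg.kappa N).Nonempty) :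
    ∃ Ms K U : Subgroup G, TypeTwoData M N Ms K U x := by
  have hN := h.coatom
  set E₁ := M ⊓ N with hE₁
  haveI : Group.IsSolvable E₁ := isSolvable_of_ne_top hG fun e => hN.1 (top_le_iff.1 (e ▸ inf_le_right))
  obtain ⟨F, -, hF, -⟩ := exists_hall_over (π := Cfsg.kappa N) (bot_le : (⊥ : Subgroup G) ≤ E₁)
    fun t ht hd => absurd ((Subgroup.card_bot (G := G)) ▸ hd) ht.not_dvd_one
  have hFN : Cfsg.IsPiHallOf (Cfsg.kappa N) F N := ⟨hF.1.trans inf_le_right, hF.2.1, fun s hs hk hsd => by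
    rw [← Subgroup.relIndex_mul_relIndex F E₁ N hF.1 inf_le_right] at hsd
    exact (hs.dvd_mul.1 hsd).elim (hF.2.2 s hs hk)
      ((hallOf_of_isComplIn hG hN h.compl).2.2 s hs ⟨hs, hk.2.2.1⟩)⟩
  have hF1 : F ≠ ⊥ := fun e => by
    obtain ⟨s, hs⟩ := hkN
    refine hFN.2.2 s hs.1 hs ?_
    rw [e, Subgroup.relIndex_bot_left]
    exact hs.2.1
  obtain ⟨U, -, hUE, hU, hEU, hEFU, -⟩ := kappa_structure_of_complement hG hN hFN hF1 h.compl hF.1
  have hKU : Cfsg.IsSigmaDecomposition N F U := by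
    refine ⟨isCyclic_kappa_hall hG hN hFN, hFN,
      ⟨hU.1, sup_le hFN.1 (Subgroup.map_subtype_le _), ?_, fun m hm => ?_⟩, hF.1.trans hEU⟩
    · refine Subgroup.inf_eq_bot_of_coprime (Nat.coprime_of_dvd fun t ht h1 h2 => ?_)
      rcases ht.dvd_mul.1 (h2.trans (Dvd.intro _
        (ZJ.card_sup_mul_card_inf_of_le_normalizer (hFN.1.trans (le_normalizer_sigmaCore N))))) with h' | h'
      · exact (hU.2.1 t ht h1).2.1 (hFN.2.1 t ht h')
      · exact (hU.2.1 t ht h1).2.2 (mem_sigma_of_dvd N ht h')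
    · obtain ⟨e, he, s, hs, rfl⟩ := h.compl.2.2.2 m hm
      obtain ⟨a, ha, u, hu, rfl⟩ := CoprimeAction.exists_mul_of_mem_sup (hF.1.trans hEU) (hEFU he)
      exact ⟨a * u * a⁻¹, (Subgroup.mem_normalizer_iff.1 (hEU (hF.1 ha)) u).1 hu, a * s,
        mul_mem (Subgroup.mem_sup_left ha) (Subgroup.mem_sup_right hs), by group⟩
  have hxU : x ∈ U := by
    refine mem_of_normal_hall hEU ⟨(Subgroup.map_subtype_le _ : Cfsg.sigmaCore M ≤ M) hx, h.mem⟩
      fun t ht hd hi => ?_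
    haveI := Fact.mk ht
    have htN := h.tau2 t ht hd
    refine hU.2.2 t ht ⟨ht, fun hk => htN.2.2.2 (kappa_basic hG hN hk).2.1, htN.2.1⟩ ?_
    rw [← Subgroup.relIndex_mul_relIndex U E₁ N hUE inf_le_right]
    exact dvd_mul_of_dvd_left hi _
  have hU1 : U ≠ ⊥ := fun e => hx1 (Subgroup.mem_bot.1 (e ▸ hxU))
  obtain ⟨Ms, hMs, P⟩ := exists_kappaPair hG hN hFN hF1
  obtain ⟨t, ht, hd⟩ := Nat.exists_prime_and_dvd fun e => hx1 (orderOf_eq_one_iff.1 e)
  haveI := Fact.mk ht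
  have htU : t ∣ Nat.card U := hd.trans (Subgroup.orderOf_dvd_natCard U hxU)
  obtain ⟨R⟩ : Nonempty (Sylow t U) := inferInstance
  set R' := (R : Subgroup U).map U.subtype with hR'
  have hR1 : R' ≠ ⊥ := fun e => R.ne_bot_of_dvd_card htU
    ((Subgroup.map_eq_bot_iff_of_injective _ U.subtype_injective).1 e)
  obtain ⟨H, hH, hNH⟩ := exists_coatom_ge
    (normalizer_ne_top hG hR1 (pgroup_ne_top hG (R.isPGroup'.map U.subtype)))
  obtain ⟨hκ, hUH, hinf, -, hfit, hcomp⟩ := type_two_normalizer hG hN hMs hKU P htU R hH hNH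
  -- the maximal subgroup `H` is `M`
  have hHM : H = M := by
    have htM := prime_mem_sigma M hx ht hd
    obtain ⟨d, hdH⟩ : ∃ d : G, H = M.map (MulAut.conj d).toMonoidHom := by
      by_contra hno
      push Not at hno
      exact sigma_disjoint hG hM hH hno htM (mem_sigma_of_dvd H ht (htU.trans (Subgroup.card_dvd_of_le hUH)))
    obtain ⟨r, hr, he⟩ := exists_support_conj hG hM hx hx1 (g := d)
      (hdH ▸ (Subgroup.map_subtype_le _ : Cfsg.sigmaCore H ≤ H) (hUH hxU))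
    rw [h.support] at hr
    rw [hdH, he] at hinf
    have hE₁eq : E₁ = U ⊔ F := le_antisymm (hEFU.trans (sup_comm F U).le) (sup_le hUE hF.1)
    have hrE : ∀ e ∈ U, r⁻¹ * e * r ∈ E₁ := fun e he' => by
      have h1 : e ∈ N ⊓ M.map (MulAut.conj r).toMonoidHom := hinf ▸ Subgroup.mem_sup_left he'
      obtain ⟨m, hm, hme⟩ := h1.2
      have h2 : r⁻¹ * e * r = m := by
        rw [← hme]
        show r⁻¹ * (r * m * r⁻¹) * r = m
        group
      refine Subgroup.mem_inf.2 ⟨h2 ▸ hm, ?_⟩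
      have hrN : r ∈ N := (Subgroup.map_subtype_le _ : Cfsg.sigmaCore N ≤ N) hr.1
      exact mul_mem (mul_mem (inv_mem hrN) h1.1) hrN
    have hrC : r ∈ Cfsg.sigmaCore N ⊓ Subgroup.centralizer (U : Set G) := by
      refine Subgroup.mem_inf.2 ⟨hr.1, Subgroup.mem_centralizer_iff.2 fun e he' => ?_⟩
      have h3 : r⁻¹ * e * r * e⁻¹ ∈ E₁ ⊓ Cfsg.sigmaCore N := by
        refine Subgroup.mem_inf.2 ⟨mul_mem (hrE e he') (inv_mem (hUE he')), ?_⟩
        rw [show r⁻¹ * e * r * e⁻¹ = r⁻¹ * (e * r * e⁻¹) by group]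
        exact mul_mem (Subgroup.inv_mem _ hr.1) ((Subgroup.mem_normalizer_iff.1 (le_normalizer_sigmaCore N (hU.1 he')) r).1 hr.1)
      rw [hE₁, h.compl.2.2.1, Subgroup.mem_bot, mul_inv_eq_one, mul_assoc, inv_mul_eq_iff_eq_mul] at h3
      exact h3
    rw [(decomp_fixed hG hN hKU hU1).2, Subgroup.mem_bot] at hrC
    rw [hdH, he, hrC, map_conj_one]
  subst hHM
  exact ⟨Ms, F, U, hKU, hF1, hU1, hMs, P, hxU, hκ, hUH, inf_comm H N ▸ hinf, hfit, hcomp⟩

theorem TypeTwoData.prime (hG : Cfsg.IsMinSimpleOddOrder G) (hN : IsCoatom N) (D : TypeTwoData M N Ms K U x) :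
    (Nat.card K).Prime :=
  (Cfsg.Agent.S1372.result hG N hN K U D.decomp D.ne_bot D.ne_bot').1

theorem TypeTwoData.ne (hG : Cfsg.IsMinSimpleOddOrder G) (hN : IsCoatom N) (D : TypeTwoData M N Ms K U x) :
    M ≠ Ms := fun e => by
  obtain ⟨s, Y, hs, hY, hYc⟩ := exists_line_le (kappaStar_ne_bot hG hN D.pair.hall D.ne_bot)
  have := D.pair.hall_star.2.1 s hs (hYc ▸ Subgroup.card_dvd_of_le hY)
  rw [← e, D.kappa_empty] at this
  exact this

/-- `K` acts freely on `M_σ`. -/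
theorem TypeTwoData.free_kappa (hG : Cfsg.IsMinSimpleOddOrder G) (hN : IsCoatom N)
    (D : TypeTwoData M N Ms K U x) {a : G} (ha : a ∈ K) (ha1 : a ≠ 1) :
    Subgroup.centralizer ({a} : Set G) ≤ Ms ∧
      Cfsg.sigmaCore M ⊓ Subgroup.centralizer ({a} : Set G) = ⊥ := by
  have hp := D.prime hG hN
  have hao : orderOf a = Nat.card K := ((Nat.dvd_prime hp).1 (Subgroup.orderOf_dvd_natCard K ha)).resolve_left
    fun e => ha1 (orderOf_eq_one_iff.1 e)
  have haS : a ∈ Cfsg.sigmaCore Ms ⊓ Subgroup.centralizer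
      ((Cfsg.sigmaCore N ⊓ Subgroup.centralizer (K : Set G) : Subgroup G) : Set G) := D.pair.eq_star ▸ ha
  obtain ⟨hC, -⟩ := star_line_unique hG D.coatom D.pair.hall_star (kappaStar_ne_bot hG hN D.pair.hall D.ne_bot)
    (hao ▸ hp) haS
  refine ⟨hC, le_bot_iff.1 ?_⟩
  rw [← D.compl.2.2.1]
  exact le_inf (le_inf (inf_le_left.trans (Subgroup.map_subtype_le _)) (inf_le_right.trans hC)) inf_le_left

theorem TypeTwoData.le_complement (D : TypeTwoData M N Ms K U x) : K ≤ M ⊓ Ms :=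
  D.le_fitting.trans (fittingOf_le _)

/-- No element of the complement centralizes `x`. -/
theorem TypeTwoData.complement_centralizer (hG : Cfsg.IsMinSimpleOddOrder G) (h : IsNeighbour M N x)
    (hx : x ∈ Cfsg.sigmaCore M) (hx1 : x ≠ 1) (D : TypeTwoData M N Ms K U x) {a : G} (ha : a ∈ M ⊓ Ms)
    (hax : a * x = x * a) : a = 1 := by
  have haE : a ∈ U ⊔ K := D.inf_eq ▸ Subgroup.mem_inf.2
    ⟨ha.1, h.cent_le (Subgroup.mem_centralizer_singleton_iff.2 hax)⟩
  rw [sup_comm] at haE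
  obtain ⟨k, hk, u, hu, rfl⟩ := CoprimeAction.exists_mul_of_mem_sup D.decomp.normal haE
  have hu1 : u = 1 := by
    have huE : u ∈ M ⊓ Ms := (Subgroup.mul_mem_cancel_left _ (D.le_complement hk)).1 ha
    exact Subgroup.mem_bot.1 (D.compl.2.2.1 ▸ Subgroup.mem_inf.2 ⟨huE, D.le_sigma hu⟩)
  rw [hu1, mul_one] at hax ⊢
  by_contra hk1
  exact hx1 (Subgroup.mem_bot.1 ((D.free_kappa hG h.coatom hk hk1).2 ▸
    Subgroup.mem_inf.2 ⟨hx, Subgroup.mem_centralizer_singleton_iff.2 hax.symm⟩))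

theorem TypeTwoData.tau2_eq_empty (hG : Cfsg.IsMinSimpleOddOrder G) (hM : IsCoatom M)
    (hx : x ∈ Cfsg.sigmaCore M) (hx1 : x ≠ 1) (h : IsNeighbour M N x) (D : TypeTwoData M N Ms K U x) :
    Cfsg.tau2 M = ∅ := by
  by_contra hne
  obtain ⟨q, hqM⟩ := Set.nonempty_iff_ne_empty.2 hne
  haveI := Fact.mk hqM.1
  have hq : q.Prime := hqM.1
  have hN := h.coatom
  have hMs := D.coatom
  obtain ⟨t, ht, hd⟩ := Nat.exists_prime_and_dvd fun e => hx1 (orderOf_eq_one_iff.1 e)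
  haveI := Fact.mk ht
  have htM := prime_mem_sigma M hx ht hd
  have htN := h.tau2 t ht hd
  set E := M ⊓ Ms with hE
  obtain ⟨A, hAE, hA, hAc⟩ := exists_elementary_in_complement hG hM D.compl hqM.2.1 hqM.2.2.2
  have hAM : A ≤ M := hAE.trans inf_le_left
  haveI := hA.1
  have hAn := le_normalizer_elementary hG hM D.compl hqM.2.1 hAE hA hAc
  have hp := D.prime hG hN
  set p := Nat.card K with hpdef
  haveI := Fact.mk hp
  obtain ⟨k, hk, hko⟩ := exists_elem_prime (p := p) (H := K) dvd_rfl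
  have hk1 : k ≠ 1 := fun e => hp.one_lt.ne (by rw [← hko, e, orderOf_one])
  have hKk : Subgroup.zpowers k = K := Subgroup.eq_of_le_of_card_ge (Subgroup.zpowers_le.2 hk)
    (by rw [Nat.card_zpowers, hko])
  -- `K` centralizes `A`
  have hAK : A ≤ Subgroup.centralizer (K : Set G) := by
    by_cases hqp : p = q
    · have hKA : K ≤ A := (Cfsg.Agent.S1418.result hG M hM E D.compl q hqM A ⟨hAE, hA, hAc⟩).1.2 K
        D.le_complement (hqp ▸ rfl)
      exact fun a ha => Subgroup.mem_centralizer_iff.2 fun b hb => setLike_mul_comm (hKA hb) ha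
    · have hKp : IsPGroup p K := IsPGroup.of_card (n := 1) (by rw [pow_one])
      have hKP : K ≤ Cfsg.pCoreOf p E := le_pCoreOf_of_le_fittingOf hKp D.le_fitting
      rw [Subgroup.le_centralizer_iff]
      have h1 : ⁅A, Cfsg.pCoreOf p E⁆ ≤ A ⊓ Cfsg.pCoreOf p E := le_inf
        (CoprimeAction.commutator_le_of_normalizer ((BenderUnique.pCoreOf_le p E).trans hAn))
        (by
          rw [Subgroup.commutator_comm]
          exact CoprimeAction.commutator_le_of_normalizer (hAE.trans (PReduced.le_normalizer_pCoreOf E)))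
      rw [disjoint_iff.1 (IsPGroup.disjoint_of_ne q p (Ne.symm hqp) _ _ (isPGroup_of_elementary hA)
        (BenderUnique.isPGroup_pCoreOf p E)), le_bot_iff, Subgroup.commutator_eq_bot_iff_le_centralizer] at h1
      exact hKP.trans (Subgroup.le_centralizer_iff.1 h1)
  -- a nonfree line
  obtain ⟨z, hzA, hz1, hzf⟩ : ∃ z ∈ A, z ≠ 1 ∧ Cfsg.sigmaCore M ⊓ Subgroup.centralizer ({z} : Set G) ≠ ⊥ := by
    by_contra hall
    push Not at hall
    refine sigmaCore_ne_bot hG hM (le_bot_iff.1 (CoprimeAction.le_of_centralizers_le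
      (not_isCyclic_of_card_sq hA hAc) (hAM.trans (le_normalizer_sigmaCore M))
      (coprime_card_of_not_dvd hAc (not_dvd_card_sigmaCore hqM.2.1)) fun a ha ha1 => (hall a ha ha1).le))
  have hzo : orderOf z = q := orderOf_eq_prime (hA.2 z hzA) hz1
  obtain ⟨hzM, hzu⟩ := (Cfsg.Agent.S1418.result hG M hM E D.compl q hqM A ⟨hAE, hA, hAc⟩).2.2
    (Subgroup.zpowers z) (Subgroup.zpowers_le.2 hzA) (by rw [Nat.card_zpowers, hzo])
    (by rwa [centralizer_zpowers])
  rw [centralizer_zpowers] at hzM hzu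
  -- the Sylow subgroups of `G` for `q` are commutative
  have hqab : ∀ {Y : Subgroup G}, IsPGroup q Y → ∀ a ∈ Y, ∀ b ∈ Y, a * b = b * a := by
    by_cases hex : ∃ T : Sylow q G, IsMulCommutative (T : Subgroup G)
    · obtain ⟨T, hT⟩ := hex
      intro hY
      exact pgroup_comm T (fun a ha b hb => setLike_mul_comm ha hb) hY
    · push Not at hex
      obtain ⟨-, ⟨hc, -⟩, -⟩ := Cfsg.Agent.S1419.result hG M hM E D.compl q hqM hex A ⟨hAE, hA, hAc⟩
      obtain ⟨a, ha, hao⟩ := exists_elem_prime (p := q) (dvd_of_eq hc.symm)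
      exact absurd (D.complement_centralizer hG h hx hx1 (hAE ha.1)
        (Subgroup.mem_centralizer_iff.1 ha.2 x hx).symm) fun e => hq.one_lt.ne (by rw [← hao, e, orderOf_one])
  -- `q ∈ σ(M*)`
  have hkS : k ∈ Cfsg.sigmaCore Ms := ((D.pair.eq_star ▸ hk :
    k ∈ Cfsg.sigmaCore Ms ⊓ Subgroup.centralizer
      ((Cfsg.sigmaCore N ⊓ Subgroup.centralizer (K : Set G) : Subgroup G) : Set G))).1
  have hqs : q ∈ Cfsg.sigma Ms := by
    by_contra hqs
    rcases Cfsg.Agent.S1432.result hG Ms hMs k hkS hk1 z (Subgroup.mem_inf.2 ⟨(hAE hzA).2,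
      Subgroup.mem_centralizer_singleton_iff.2 (Subgroup.mem_centralizer_iff.1 (hAK hzA) k hk).symm⟩) hz1
      (fun s hs hsd => by
        rw [hzo] at hsd
        rwa [(Nat.prime_dvd_prime_iff_eq hs hq).1 hsd]) with ⟨hk', -⟩ | ⟨-, -, hCz, hu⟩
    · have hqk := hk' q hq (hzo ▸ dvd_rfl)
      have hqS : q ∣ Nat.card ↥(Cfsg.sigmaCore N ⊓ Subgroup.centralizer (K : Set G)) := by
        have h1 := hqk.2.1
        rw [← Subgroup.relIndex_bot_left, ← Subgroup.relIndex_mul_relIndex ⊥ _ Ms bot_le D.pair.hall_star.1] at h1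
        rw [← Subgroup.relIndex_bot_left]
        exact (hq.dvd_mul.1 h1).resolve_right (D.pair.hall_star.2.2 q hq hqk)
      have hqN : q ∈ Cfsg.sigma N := mem_sigma_of_dvd N hq (hqS.trans (Subgroup.card_dvd_of_le inf_le_left))
      exact lt_asymm (lt_of_tau2 hG hM hN hqM htM htN) (lt_of_tau2 hG hN hM htN hqN hqM)
    · exact D.ne hG hN (hu M hM hzM)
  have hqb : q ∉ Cfsg.beta Ms := fun e => not_ideal hG hM hqM.2.1 hqM.2.2.2 e.2
  have hAS : A ≤ Cfsg.sigmaCore Ms := le_sigmaCore hG hMs hqs (isPGroup_of_elementary hA) (hAE.trans inf_le_right)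
  -- `M*` is of type `P₁`, so `K` lies in the derived group of its core
  set R := Cfsg.sigmaCore N ⊓ Subgroup.centralizer (K : Set G) with hR
  have hR1 : R ≠ ⊥ := kappaStar_ne_bot hG hN D.pair.hall D.ne_bot
  obtain ⟨U', hU'⟩ := exists_decomp hG hMs (isCyclic_kappa_hall hG hMs D.pair.hall_star) D.pair.hall_star
  have hqSs : q ∣ Nat.card ↥(Cfsg.sigmaCore Ms) := hzo ▸ Subgroup.orderOf_dvd_natCard _ (hAS hzA)
  have hU'1 : U' = ⊥ := by
    by_contra hne'
    exact hqb (decomp_sigma_beta hG hMs hU' hR1 hne' hqSs)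
  have hkD : k ∈ ⁅Cfsg.sigmaCore Ms, Cfsg.sigmaCore Ms⁆ :=
    decomp_star_le_derived hG hMs hU' hU'1 (D.pair.eq_star ▸ hk)
  have hps : p ∈ Cfsg.sigma Ms := prime_mem_sigma Ms hkS hp (hko ▸ dvd_rfl)
  by_cases hqp : p = q
  · exact not_mem_derived hG hMs hqs hqb (fun Y _ hY => hqab hY) (hko.trans hqp) hkD
  -- an `R`-invariant conjugate of `A` centralizing `K`
  have hRM : R ≤ Ms := D.pair.hall_star.1
  have hRK : R ≤ Subgroup.centralizer (K : Set G) := inf_le_right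
  set C₀ := Cfsg.sigmaCore Ms ⊓ Subgroup.centralizer (K : Set G) with hC₀
  have hRC : R ≤ Subgroup.normalizer (C₀ : Set G) :=
    (le_inf (hRM.trans (le_normalizer_sigmaCore Ms)) (hRK.trans Subgroup.le_normalizer)).trans
      Subgroup.inf_normalizer_le_normalizer_inf
  have hRs : Group.IsSolvable R := isSolvable_of_ne_top hG fun e => hMs.1 (top_le_iff.1 (e ▸ hRM))
  have hRcop : (Nat.card R).Coprime (Nat.card ↥(Cfsg.sigmaCore Ms)) := Nat.coprime_of_dvd fun s hs h1 h2 =>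
    (D.pair.hall_star.2.1 s hs h1).2.2.1 (mem_sigma_of_dvd Ms hs h2)
  obtain ⟨Q', hQ'⟩ := CoprimeAction.exists_invariant_sylow hRC
    (hRcop.coprime_dvd_right (Subgroup.card_dvd_of_le inf_le_left)) (Or.inl hRs) q
  obtain ⟨Q₀, hQ₀⟩ := exists_max_ge (isPGroup_of_elementary hA) (le_inf hAS hAK : A ≤ C₀)
  obtain ⟨c, hc⟩ := MulAction.exists_smul_eq ↥C₀ Q₀ Q'
  set A' := A.map (MulAut.conj (c : G)).toMonoidHom with hA'
  have hmapc : ∀ w ∈ (Q₀ : Subgroup C₀), (c : G) * w * (c : G)⁻¹ ∈ (Q' : Subgroup C₀).map C₀.subtype := fun w hw =>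
    ⟨c * w * c⁻¹, by rw [← hc]; exact ⟨w, hw, rfl⟩, rfl⟩
  have hA'Q : A' ≤ (Q' : Subgroup C₀).map C₀.subtype := by
    rintro _ ⟨a, ha, rfl⟩
    obtain ⟨a', ha', rfl⟩ := hQ₀ ha
    exact hmapc a' ha'
  have hA'C : A' ≤ C₀ := hA'Q.trans (Subgroup.map_subtype_le _)
  have hA'e : Cfsg.IsElementaryAbelian q A' := elementary_map_conj hA _
  have hA'c : Nat.card A' = q ^ 2 := (card_map_conj A _).trans hAc
  set M' := M.map (MulAut.conj (c : G)).toMonoidHom with hM'
  have hM'c : IsCoatom M' := isCoatom_map _ hM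
  have hqM' : q ∉ Cfsg.sigma M' := fun e => hqM.2.1 ((mem_sigma_conj_iff _).1 e)
  have hA'M : A' ≤ M' := Subgroup.map_mono hAM
  have hRA : R ≤ Subgroup.normalizer (A' : Set G) := by
    intro g hg
    refine mem_normalizer_of_map_le ?_
    rintro _ ⟨a, ha, rfl⟩
    have hb : g * a * g⁻¹ ∈ (Q' : Subgroup C₀).map C₀.subtype :=
      (Subgroup.mem_normalizer_iff.1 (hQ' hg) a).1 (hA'Q ha)
    exact mem_of_centralizer_pow hG hM'c hqM' hA'M hA'e hA'c
      (Subgroup.mem_centralizer_iff.2 fun b hb' => hqab (Q'.isPGroup'.map _) b (hA'Q hb') _ hb)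
      (by rw [show (MulAut.conj g).toMonoidHom a = g * a * g⁻¹ from rfl, conj_pow, hA'e.2 a ha, mul_one,
        mul_inv_cancel])
  have hdec := (decomp_kappa_structure hG hMs hU' hR1).2
  have hfixR : ∀ s ∈ R, s ≠ 1 → Cfsg.sigmaCore Ms ⊓ Subgroup.centralizer ({s} : Set G) ≤ K := by
    intro s hs hs1
    obtain ⟨l, hl, hld⟩ := Nat.exists_prime_and_dvd fun e => hs1 (orderOf_eq_one_iff.1 e)
    haveI := Fact.mk hl
    obtain ⟨w, hw, hwo⟩ := exists_elem_prime (p := l) (H := Subgroup.zpowers s) (by rwa [Nat.card_zpowers])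
    have he := (hdec (Subgroup.zpowers w) (Subgroup.zpowers_le.2 ((Subgroup.zpowers_le.2 hs) hw))
      (by rw [Nat.card_zpowers, hwo]; exact hl)).1
    refine le_trans ?_ (le_trans he.le D.pair.eq_star.ge)
    rw [← centralizer_zpowers s]
    exact inf_le_inf_left _ (Subgroup.centralizer_le (Subgroup.zpowers_le.2 hw))
  have hAKd : A' ⊓ K = ⊥ := disjoint_iff.1 (IsPGroup.disjoint_of_ne q p (Ne.symm hqp) _ _
    (isPGroup_of_elementary hA'e) (IsPGroup.of_card (n := 1) (by rw [pow_one])))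
  have hcopA : ∀ {Y : Subgroup G}, ¬ q ∣ Nat.card Y → (Nat.card A').Coprime (Nat.card Y) := fun hY => by
    rw [hA'c]
    exact ((hq.coprime_iff_not_dvd).2 hY).pow_left 2
  have hA'R : A' ⊓ R = ⊥ := CoprimeAction.inf_eq_bot_of_coprime
    (hRcop.symm.coprime_dvd_left (Subgroup.card_dvd_of_le (hA'C.trans inf_le_left)))
  -- the normal `q`-complement of `M*_σ`
  set S := Cfsg.sigmaCore Ms with hSdef
  obtain ⟨-, ⟨Pq, N₁, hN₁, hN₁c⟩, -⟩ := (Cfsg.Agent.S1414.result hG Ms hMs).2.2.2.2 q hq hqs.2.1 hqb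
  haveI := PCore.pPrimeCore_characteristic q ↥S
  set O := (Cfsg.pPrimeCore q ↥S).map S.subtype with hO
  have hMO : Ms ≤ Subgroup.normalizer (O : Set G) :=
    (le_normalizer_sigmaCore Ms).trans (le_normalizer_map_subtype_of_char (Cfsg.pPrimeCore q ↥S))
  have hOq : ¬ q ∣ Nat.card O := by
    rw [hO, Subgroup.card_map_of_injective S.subtype_injective]
    exact PCore.not_dvd_card_pPrimeCore q _
  obtain ⟨Tp₀⟩ : Nonempty (Sylow p ↥S) := inferInstance
  obtain ⟨T, hT, -, -⟩ := exists_sylow_of_sigmaCore hG hMs hps Tp₀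
  have hTS : (T : Subgroup G) ≤ S := hT ▸ Subgroup.map_subtype_le _
  have hTO : (T : Subgroup G) ≤ O := by
    refine le_of_prime_relIndex fun s hs hsd hi => ?_
    obtain ⟨n, hn⟩ := T.isPGroup'.exists_card_eq
    rw [hn] at hsd
    have hsp : s = p := (Nat.prime_dvd_prime_iff_eq hs hp).1 (hs.dvd_of_dvd_pow hsd)
    rw [hsp] at hs hi
    have h1 : p ∣ O.relIndex S := hi.trans (relIndex_dvd_of_normal
      (Subgroup.le_normalizer.trans (le_normalizer_map_subtype_of_char (Cfsg.pPrimeCore q ↥S))) hTS)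
    rw [Subgroup.relIndex, hO, Subgroup.subgroupOf, Subgroup.comap_map_eq_self_of_injective S.subtype_injective]
      at h1
    have hle : N₁ ≤ Cfsg.pPrimeCore q ↥S := PCore.le_pPrimeCore_of_not_dvd hN₁ fun e =>
      Pq.not_dvd_index (by rwa [hN₁c.index_eq_card])
    have h2 := h1.trans (Subgroup.index_dvd_of_le hle)
    rw [hN₁c.symm.index_eq_card] at h2
    obtain ⟨m, hm⟩ := Pq.isPGroup'.exists_card_eq
    rw [hm] at h2
    exact hqp ((Nat.prime_dvd_prime_iff_eq hs hq).1 (hs.dvd_of_dvd_pow h2))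
  have hOS : O ≤ S := Subgroup.map_subtype_le _
  set J := A' ⊔ R with hJ
  have hJO : J ≤ Subgroup.normalizer (O : Set G) :=
    sup_le (((hA'C.trans inf_le_left).trans (Subgroup.map_subtype_le _)).trans hMO) (hRM.trans hMO)
  have hJcop : (Nat.card J).Coprime (Nat.card O) := by
    refine Nat.Coprime.coprime_dvd_left (?_ : Nat.card J ∣ Nat.card R * Nat.card A') ?_
    · rw [hJ, sup_comm, ← ZJ.card_sup_mul_card_inf_of_le_normalizer hRA]
      exact dvd_mul_right _ _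
    · exact Nat.Coprime.mul_left (hRcop.coprime_dvd_right (Subgroup.card_dvd_of_le hOS)) (hcopA hOq)
  haveI hOs : Group.IsSolvable O := isSolvable_of_ne_top hG fun e => hMs.1 (top_le_iff.1 (e ▸
    hOS.trans (Subgroup.map_subtype_le _)))
  obtain ⟨P₁, hP₁⟩ := CoprimeAction.exists_invariant_sylow hJO hJcop (Or.inr hOs) p
  obtain ⟨n, hn⟩ := MulAction.exists_smul_eq ↥O (T.subtype hTO) P₁
  set T₁ := (n : G) • T with hT₁
  have hT₁P : (T₁ : Subgroup G) ≤ (P₁ : Subgroup O).map O.subtype := by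
    rintro _ ⟨w, hw, rfl⟩
    exact ⟨n * ⟨w, hTO hw⟩ * n⁻¹, by rw [← hn]; exact ⟨⟨w, hTO hw⟩, hw, rfl⟩, rfl⟩
  set Q := (P₁ : Subgroup O).map O.subtype with hQ
  have hQS : Q ≤ S := (Subgroup.map_subtype_le _).trans hOS
  have hQp : IsPGroup p Q := P₁.isPGroup'.map _
  -- `A'` centralizes the invariant Sylow subgroup
  have hQR : Q ⊓ Subgroup.centralizer (R : Set G) ≤ K := le_trans (inf_le_inf_right _ hQS) D.pair.eq_star.ge
  have hcent : A' ≤ Subgroup.centralizer (Q : Set G) := by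
    haveI := D.decomp.cyclic
    refine frobenius_centralizes hQp hR1 hA'R hRA (fun s hs hs1 => le_bot_iff.1 ?_)
      (le_sup_left.trans hP₁) (le_sup_right.trans hP₁)
      (hJcop.coprime_dvd_right (Subgroup.card_dvd_of_le (Subgroup.map_subtype_le _)))
      (fun s hs hs1 => le_antisymm ?_ (inf_le_inf_left _ (Subgroup.centralizer_le (Set.singleton_subset_iff.2 hs))))
      (Subgroup.isCyclic_of_le hQR) (hQR.trans (Subgroup.le_centralizer_iff.1 (hA'C.trans inf_le_right)))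
    · rw [← hAKd]
      exact le_inf inf_le_left ((inf_le_inf_right _ (hA'C.trans inf_le_left)).trans (hfixR s hs hs1))
    · exact le_inf inf_le_left (((inf_le_inf_right _ hQS).trans (hfixR s hs hs1)).trans
        (Subgroup.le_centralizer_iff.1 hRK))
  have hQM : Q ≤ M' := (Subgroup.le_centralizer_iff.1 hcent).trans
    (centralizer_le_maximal hG hM'c hA'M hA'e hA'c)
  have hpM : p ∉ Cfsg.sigma M := fun e =>
    not_dvd_card_complement hG hM D.compl hp e (Subgroup.card_dvd_of_le D.le_complement)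
  have hpM' : p ∉ Cfsg.sigma M' := fun e => hpM ((mem_sigma_conj_iff _).1 e)
  obtain ⟨E', -, hE'⟩ := exists_complement_ge hG hM'c (bot_le : (⊥ : Subgroup G) ≤ M') fun s hs hsd =>
    absurd ((Subgroup.card_bot (G := G)) ▸ hsd) hs.not_dvd_one
  have hpb : p ∉ Cfsg.beta Ms := by
    rintro ⟨-, -, hrk, -⟩
    obtain ⟨B, -, hB, hBc⟩ := exists_elem_of_not_prank (K := (⊤ : Subgroup G)) (p := p) (k := 2) (fun e => hrk (by
      intro A hA hpow
      refine le_trans (le_of_eq (Nat.card_congr (Subgroup.subgroupOfEquivOfLe (le_top : A ≤ ⊤)).toEquiv).symm) (e _ ?_ ?_)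
      · haveI := hA
        exact ⟨⟨fun a b => Subtype.ext (Subtype.ext (congrArg Subtype.val (mul_comm' (⟨_, Subgroup.mem_subgroupOf.1 a.2⟩ : A) ⟨_, Subgroup.mem_subgroupOf.1 b.2⟩) :))⟩⟩
      · exact fun a ha => Subtype.ext (hpow _ ha)))
    obtain ⟨T₂, hT₂⟩ := IsPGroup.exists_le_sylow (isPGroup_of_elementary hB)
    obtain ⟨g, hg⟩ := MulAction.exists_smul_eq G T₂ T₁
    refine not_prank_of_elem (K := M') (?_ : B.map (MulAut.conj g).toMonoidHom ≤ M') (elementary_map_conj hB g)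
      (by rw [card_map_conj]; exact pow_lt_card hBc) (prankLE_two_of_not_sigma hG hM'c hpM')
    exact le_trans (hg ▸ Subgroup.map_mono hT₂) (hT₁P.trans hQM)
  refine not_mem_derived hG hMs hps hpb (fun Y _ hY => pgroup_comm T₁ (fun a ha b hb => ?_) hY) hko hkD
  haveI := (Cfsg.Agent.S1420.result hG M' hM'c E' hE').1 Q hQM hQp.isNilpotent fun s hs hsd => by
    obtain ⟨m, hm⟩ := hQp.exists_card_eq
    rw [hm] at hsd
    rw [(Nat.prime_dvd_prime_iff_eq hs hp).1 (hs.dvd_of_dvd_pow hsd)]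
    exact hpM'
  exact setLike_mul_comm (hT₁P ha) (hT₁P hb)

/-- The whole complement acts freely on `M_σ`. -/
theorem TypeTwoData.free (hG : Cfsg.IsMinSimpleOddOrder G) (hM : IsCoatom M) (hx : x ∈ Cfsg.sigmaCore M)
    (hx1 : x ≠ 1) (h : IsNeighbour M N x) (D : TypeTwoData M N Ms K U x) {a : G} (ha : a ∈ M ⊓ Ms)
    (ha1 : a ≠ 1) : Cfsg.sigmaCore M ⊓ Subgroup.centralizer ({a} : Set G) = ⊥ := by
  obtain ⟨l, hl, hld⟩ := Nat.exists_prime_and_dvd fun e => ha1 (orderOf_eq_one_iff.1 e)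
  haveI := Fact.mk hl
  obtain ⟨w, hw, hwo⟩ := exists_elem_prime (p := l) (H := Subgroup.zpowers a) (by rwa [Nat.card_zpowers])
  have hwE : w ∈ M ⊓ Ms := (Subgroup.zpowers_le.2 ha) hw
  have hls : l ∉ Cfsg.sigma M := fun e =>
    not_dvd_card_complement hG hM D.compl hl e (hwo ▸ Subgroup.orderOf_dvd_natCard _ hwE)
  have hr : Cfsg.PRankLE l 1 ↥M := by
    by_contra e
    have : l ∈ Cfsg.tau2 M := ⟨hl, hls, prankLE_two_of_not_sigma hG hM hls, e⟩
    rw [D.tau2_eq_empty hG hM hx hx1 h] at this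
    exact this
  rw [eq_bot_iff, ← free_of_not_kappa hG hls (fun e => Set.notMem_empty l (D.kappa_empty ▸ e)) hr hwE.1 hwo,
    ← centralizer_zpowers a]
  exact inf_le_inf_left _ (Subgroup.centralizer_le (Set.singleton_subset_iff.2 hw))

theorem TypeTwoData.complement_cyclic (hG : Cfsg.IsMinSimpleOddOrder G) (hM : IsCoatom M)
    (hx : x ∈ Cfsg.sigmaCore M) (hx1 : x ≠ 1) (hxM : ¬ Subgroup.centralizer ({x} : Set G) ≤ M)
    (h : IsNeighbour M N x) (D : TypeTwoData M N Ms K U x) :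
    IsCyclic ↥(M ⊓ Ms) ∧ Group.IsNilpotent (Cfsg.sigmaCore M) := by
  set E := M ⊓ Ms with hE
  have hn : Group.IsNilpotent (Cfsg.sigmaCore M) := by
    obtain ⟨k, hk, hk1⟩ := (Subgroup.bot_or_exists_ne_one _).resolve_left D.ne_bot
    obtain ⟨t, ht, hd⟩ := Nat.exists_prime_and_dvd fun e => hk1 (orderOf_eq_one_iff.1 e)
    haveI := Fact.mk ht
    have htM : t ∣ Nat.card M := hd.trans (Subgroup.orderOf_dvd_natCard M (D.le_complement hk).1)
    have hts : t ∉ Cfsg.sigma M := fun e =>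
      not_dvd_card_complement hG hM D.compl ht e (hd.trans (Subgroup.orderOf_dvd_natCard _ (D.le_complement hk)))
    have htk : t ∉ Cfsg.kappa M := fun e => Set.notMem_empty t (D.kappa_empty ▸ e)
    exact (omega_structure hG hM htM hts htk (S := (Classical.arbitrary (Sylow t M))) rfl).2.2
  refine ⟨?_, hn⟩
  -- `E' = 1`
  obtain ⟨c, hc, hcM⟩ := SetLike.not_le_iff_exists.1 hxM
  obtain ⟨t, ht, hd⟩ := Nat.exists_prime_and_dvd fun e => hx1 (orderOf_eq_one_iff.1 e)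
  haveI := Fact.mk ht
  have htb : t ∉ Cfsg.beta M := ((Cfsg.Agent.S1426.result hG M hM E D.compl).2.2 c hcM).2.1 t ht
    (hd.trans (Subgroup.orderOf_dvd_natCard _ (Subgroup.mem_inf.2 ⟨hx, x,
      (Subgroup.map_subtype_le _ : Cfsg.sigmaCore M ≤ M) hx, by
        show c * x * c⁻¹ = x
        rw [Subgroup.mem_centralizer_singleton_iff.1 hc, mul_inv_cancel_right]⟩)))
  have htM := prime_mem_sigma M hx ht hd
  obtain ⟨T₀⟩ : Nonempty (Sylow t ↥(Cfsg.sigmaCore M)) := inferInstance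
  obtain ⟨T, -, hTM, -⟩ := exists_sylow_of_sigmaCore hG hM htM T₀
  have hT1 : (T : Subgroup G) ≠ ⊥ := T.ne_bot_of_dvd_card (htM.2.1.trans (Subgroup.card_subgroup_dvd_card M))
  have hNT := normalizer_eq_of_nilpotent hG hM hn htM T hT1 hTM
  have hcomm : ∀ a ∈ E, ∀ b ∈ E, ⁅a, b⁆ = 1 := fun a ha b hb => by
    by_contra hne
    have hmem : ⁅a, b⁆ ∈ E := by
      rw [commutatorElement_def]
      exact mul_mem (mul_mem (mul_mem ha hb) (inv_mem ha)) (inv_mem hb)
    have hcen := le_centralizer_of_not_beta hG hM htM htb T.isPGroup' hTM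
      (Y := Subgroup.zpowers ⁅a, b⁆) (Subgroup.zpowers_le.2 (Subgroup.commutator_mem_commutator ha.1 hb.1))
      ((ht.coprime_iff_not_dvd.2 fun e => not_dvd_card_complement hG hM D.compl ht htM
        (e.trans (Subgroup.card_dvd_of_le (Subgroup.zpowers_le.2 hmem)))).symm)
      ((Subgroup.zpowers_le.2 hmem.1).trans hNT.ge)
    obtain ⟨w, hw, hw1⟩ := (Subgroup.bot_or_exists_ne_one _).resolve_left hT1
    exact hw1 (Subgroup.mem_bot.1 (D.free hG hM hx hx1 h hmem hne ▸ Subgroup.mem_inf.2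
      ⟨le_sigmaCore hG hM htM T.isPGroup' hTM hw, Subgroup.mem_centralizer_singleton_iff.2
        (Subgroup.mem_centralizer_iff.1 (hcen (Subgroup.mem_zpowers _)) w hw)⟩))
  haveI : Group.IsNilpotent ↥E := by
    letI : CommGroup ↥E := { (inferInstance : Group ↥E) with
      mul_comm := fun a b => Subtype.ext (commutatorElement_eq_one_iff_mul_comm.1 (hcomm _ a.2 _ b.2)) }
    infer_instance
  haveI : IsZGroup ↥E := by
    refine ⟨fun l hl P => ?_⟩
    haveI := Fact.mk hl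
    by_cases hP : (P : Subgroup ↥E) = ⊥
    · rw [hP]
      exact isCyclic_of_subsingleton
    have hlE : l ∣ Nat.card E := (dvd_card_of_ne_bot (G := ↥E) P.isPGroup' hP).trans (Subgroup.card_subgroup_dvd_card _)
    have hls : l ∉ Cfsg.sigma M := fun e => not_dvd_card_complement hG hM D.compl hl e hlE
    have hr : Cfsg.PRankLE l 1 ↥M := by
      by_contra e
      have : l ∈ Cfsg.tau2 M := ⟨hl, hls, prankLE_two_of_not_sigma hG hM hls, e⟩
      rw [D.tau2_eq_empty hG hM hx hx1 h] at this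
      exact this
    have := isCyclic_of_prank_one hG hr ((Subgroup.map_subtype_le (P : Subgroup ↥E)).trans inf_le_left)
      (P.isPGroup'.map E.subtype)
    exact isCyclic_of_injective ((P : Subgroup ↥E).equivMapOfInjective E.subtype E.subtype_injective).toMonoidHom
      ((P : Subgroup ↥E).equivMapOfInjective E.subtype E.subtype_injective).injective
  infer_instance

/-- B&G 14.6 / 15.9, last part. -/
theorem type_two_neighbour (hG : Cfsg.IsMinSimpleOddOrder G) (hM : IsCoatom M)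
    (hx : x ∈ Cfsg.sigmaCore M) (hx1 : x ≠ 1) (hxM : ¬ Subgroup.centralizer ({x} : Set G) ≤ M)
    (h : IsNeighbour M N x) (hkN : (Cfsg.kappa N).Nonempty) :
    Cfsg.kappa M = ∅ ∧ (∃ E : Subgroup ↥M, Cfsg.IsFrobeniusComplement E ∧ IsCyclic E) ∧
      ¬ Cfsg.IsTISubset (Cfsg.fittingHallOf M : Set G) := by
  obtain ⟨Ms, K, U, D⟩ := exists_typeTwoData hG hM hx hx1 h hkN
  obtain ⟨hcyc, hn⟩ := D.complement_cyclic hG hM hx hx1 hxM h
  set E := M ⊓ Ms with hE
  have hEM : E ≤ M := inf_le_left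
  refine ⟨D.kappa_empty, ⟨E.subgroupOf M, ⟨fun e => ?_, fun e => ?_, fun g hg => ?_⟩, ?_⟩, fun hTI => ?_⟩
  · refine D.ne_bot (le_bot_iff.1 ((D.le_complement : K ≤ E).trans ?_))
    show E ≤ ⊥
    rw [← Subgroup.map_subgroupOf_eq_of_le hEM, e, Subgroup.map_bot]
  · have hME : M ≤ E := fun m hm => by
      have : (⟨m, hm⟩ : M) ∈ E.subgroupOf M := e ▸ Subgroup.mem_top _
      exact this
    refine hx1 (Subgroup.mem_bot.1 (D.compl.2.2.1 ▸ Subgroup.mem_inf.2
      ⟨hME ((Subgroup.map_subtype_le _ : Cfsg.sigmaCore M ≤ M) hx), hx⟩))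
  · rw [eq_bot_iff]
    rintro _ ⟨ha, a₁, ha₁, rfl⟩
    obtain ⟨e, he, s, hs, hes⟩ := D.compl.2.2.2 g g.2
    have ha' : (g : G) * a₁ * (g : G)⁻¹ ∈ E := ha
    rw [hes, show e * s * a₁ * (e * s)⁻¹ = e * (s * a₁ * s⁻¹) * e⁻¹ by group] at ha'
    have hb : s * (a₁ : G) * s⁻¹ ∈ E := by
      have := mul_mem (mul_mem (inv_mem he) ha') he
      rwa [show e⁻¹ * (e * (s * a₁ * s⁻¹) * e⁻¹) * e = s * a₁ * s⁻¹ by group] at this
    have ha₁E : (a₁ : G) ∈ E := ha₁
    have h3 : s * (a₁ : G) * s⁻¹ * (a₁ : G)⁻¹ ∈ E ⊓ Cfsg.sigmaCore M := by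
      refine Subgroup.mem_inf.2 ⟨mul_mem hb (inv_mem ha₁E), ?_⟩
      rw [show s * (a₁ : G) * s⁻¹ * (a₁ : G)⁻¹ = s * ((a₁ : G) * s⁻¹ * (a₁ : G)⁻¹) by group]
      exact mul_mem hs ((Subgroup.mem_normalizer_iff.1 (le_normalizer_sigmaCore M a₁.2) _).1 (inv_mem hs))
    rw [D.compl.2.2.1, Subgroup.mem_bot, mul_inv_eq_one, mul_inv_eq_iff_eq_mul] at h3
    rw [Subgroup.mem_bot]
    by_contra hne
    have ha1 : (a₁ : G) ≠ 1 := fun e1 => hne (by
      rw [show a₁ = 1 from Subtype.ext e1]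
      exact map_one (MulAut.conj g).toMonoidHom)
    have hs1 : s = 1 := Subgroup.mem_bot.1 (D.free hG hM hx hx1 h ha₁E ha1 ▸
      Subgroup.mem_inf.2 ⟨hs, Subgroup.mem_centralizer_singleton_iff.2 h3⟩)
    exact hg (show (g : G) ∈ E by rw [hes, hs1, mul_one]; exact he)
  · exact isCyclic_of_surjective (Subgroup.subgroupOfEquivOfLe hEM).symm
      (Subgroup.subgroupOfEquivOfLe hEM).symm.surjective
  · obtain ⟨c, hc, hcM⟩ := SetLike.not_le_iff_exists.1 hxM
    have hxF : x ∈ Cfsg.fittingHallOf M := sigmaCore_le_fittingHallOf hG hM hn hx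
    refine hx1 (hTI c (fun hcn => hcM ?_) x hxF ?_)
    · have hle := le_normalizer_fittingHallOf M
      have hne : Cfsg.fittingHallOf M ≠ ⊥ := fun e => hx1 (Subgroup.mem_bot.1 (e ▸ hxF))
      have htop : Subgroup.normalizer (Cfsg.fittingHallOf M : Set G) ≠ ⊤ := normalizer_ne_top hG hne
        fun e => hM.1 (top_le_iff.1 (e ▸ (Subgroup.map_subtype_le _)))
      exact ((hM.le_iff.1 hle).resolve_left htop).le hcn
    · rw [Subgroup.mem_centralizer_singleton_iff.1 hc, mul_inv_cancel_right]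
      exact hxF

end CfsgLib.BGSets
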